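import Mathlib.RingTheory.LaurentSeries
import Mathlib.RingTheory.PowerSeries.Trunc
import Mathlib.Algebra.Polynomial.AlgebraMap

/-! The Taylor homomorphism `f(X) ↦ f(X + T)` of power series. -/

namespace Groth.Agent.Lib.FunFld.Hasse.Taylor

open PowerSeries

universe u
variable {R : Type u} [CommRing R]

/-- The `j`-th Hasse derivative of a power series. -/
noncomputable def hd (j : ℕ) (f : PowerSeries R) : PowerSeries R :=
  PowerSeries.mk fun n => ((n + j).choose j : R) * coeff (n + j) f

theorem coeff_hd (j n : ℕ) (f : PowerSeries R) :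
    coeff n (hd j f) = ((n + j).choose j : R) * coeff (n + j) f := coeff_mk _ _

theorem hd_coe (j : ℕ) (f : PowerSeries R) :
    LaurentSeries.hasseDeriv R j (f : LaurentSeries R) = (hd j f : LaurentSeries R) := by
  ext n
  rw [LaurentSeries.hasseDeriv_coeff, coeff_coe, coeff_coe]
  rcases le_or_gt 0 n with hn | hn
  · lift n to ℕ using hn
    rw [if_neg (by omega), if_neg (by omega), ← Nat.cast_add, Ring.choose_natCast, coeff_hd,
      Int.natAbs_natCast, Int.natAbs_natCast, zsmul_eq_mul, Int.cast_natCast]
  · rw [if_pos hn]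
    rcases lt_or_ge (n + j) 0 with h | h
    · rw [if_pos h, smul_zero]
    · obtain ⟨m, hm⟩ := Int.eq_ofNat_of_zero_le h
      rw [hm, Ring.choose_natCast, Nat.choose_eq_zero_of_lt (by omega)]
      simp

/-- The series `f(X + T)` as a series in `T`. -/
noncomputable def tl (f : PowerSeries R) : PowerSeries (PowerSeries R) :=
  PowerSeries.mk fun j => hd j f

theorem coeff_tl (j n : ℕ) (f : PowerSeries R) :
    coeff n (coeff j (tl f)) = ((n + j).choose j : R) * coeff (n + j) f := by
  rw [tl, coeff_mk, coeff_hd]

theorem tl_add (f g : PowerSeries R) : tl (f + g) = tl f + tl g := by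
  ext j n
  simp only [map_add, coeff_tl, mul_add]

theorem tl_zero : tl (0 : PowerSeries R) = 0 := by
  ext j n; simp [coeff_tl]

/-- Coefficients of low total degree only see low coefficients. -/
theorem coeff_mul_of_low {N : ℕ} (a b a' b' : PowerSeries (PowerSeries R))
    (ha : ∀ j n, n + j < N → coeff n (coeff j a) = coeff n (coeff j a'))
    (hb : ∀ j n, n + j < N → coeff n (coeff j b) = coeff n (coeff j b'))
    {j n : ℕ} (h : n + j < N) : coeff n (coeff j (a * b)) = coeff n (coeff j (a' * b')) := by
  rw [coeff_mul, coeff_mul, map_sum, map_sum]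
  refine Finset.sum_congr rfl fun p hp => ?_
  rw [coeff_mul, coeff_mul]
  refine Finset.sum_congr rfl fun q hq => ?_
  simp only [Finset.HasAntidiagonal.mem_antidiagonal] at hp hq
  rw [ha _ _ (by omega), hb _ _ (by omega)]

theorem coeff_tl_congr {N : ℕ} {f g : PowerSeries R} (h : trunc N f = trunc N g) (j n : ℕ)
    (hjn : n + j < N) : coeff n (coeff j (tl f)) = coeff n (coeff j (tl g)) := by
  have := congrArg (fun p : Polynomial R => p.coeff (n + j)) h
  simp only [coeff_trunc, if_pos hjn] at this
  rw [coeff_tl, coeff_tl, this]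

theorem tl_polynomial (p : Polynomial R) :
    tl (p : PowerSeries R) =
      p.eval₂ ((PowerSeries.C).comp (PowerSeries.C (R := R))) (PowerSeries.C PowerSeries.X + PowerSeries.X) := by
  induction p using Polynomial.induction_on' with
  | add p q hp hq => rw [Polynomial.coe_add, tl_add, hp, hq, Polynomial.eval₂_add]
  | monomial m a =>
    rw [Polynomial.eval₂_monomial, RingHom.comp_apply]
    have hpoly : (PowerSeries.C PowerSeries.X + PowerSeries.X : PowerSeries (PowerSeries R)) =
        ((Polynomial.X + Polynomial.C PowerSeries.X : Polynomial (PowerSeries R)) :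
          PowerSeries (PowerSeries R)) := by
      rw [Polynomial.coe_add, Polynomial.coe_X, Polynomial.coe_C, add_comm]
    rw [hpoly, ← Polynomial.coe_pow]
    refine PowerSeries.ext fun j => PowerSeries.ext fun n => ?_
    rw [coeff_tl, PowerSeries.coeff_C_mul, Polynomial.coeff_coe, Polynomial.coeff_coe,
      Polynomial.coeff_X_add_C_pow, Polynomial.coeff_monomial, ← map_natCast (PowerSeries.C (R := R)),
      PowerSeries.coeff_C_mul, coeff_mul_C, PowerSeries.coeff_X_pow]
    rcases le_or_gt j m with hj | hj
    · by_cases hn : n = m - j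
      · rw [if_pos hn, if_pos (by omega), show n + j = m by omega]; ring
      · rw [if_neg hn, if_neg (by omega)]; ring
    · rw [Nat.choose_eq_zero_of_lt hj]
      by_cases hm : m = n + j
      · omega
      · rw [if_neg hm]; simp

theorem tl_mul (f g : PowerSeries R) : tl (f * g) = tl f * tl g := by
  refine PowerSeries.ext fun j => PowerSeries.ext fun n => ?_
  set N := n + j + 1
  have hp : trunc N (f * g) = trunc N (((trunc N f * trunc N g : Polynomial R)) : PowerSeries R) := by
    rw [Polynomial.coe_mul, trunc_trunc_mul_trunc]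
  rw [coeff_tl_congr hp j n (by omega), tl_polynomial, Polynomial.eval₂_mul, ← tl_polynomial,
    ← tl_polynomial]
  exact coeff_mul_of_low _ _ _ _ (fun j' n' h => coeff_tl_congr (trunc_trunc f) j' n' h)
    (fun j' n' h => coeff_tl_congr (trunc_trunc g) j' n' h) (N := N) (by omega)

theorem tl_one : tl (1 : PowerSeries R) = 1 := by
  rw [← Polynomial.coe_one, tl_polynomial]; simp

/-- The Taylor homomorphism. -/
noncomputable def tlHom : PowerSeries R →+* PowerSeries (PowerSeries R) where
  toFun := tl
  map_one' := tl_one
  map_mul' := tl_mul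
  map_zero' := tl_zero
  map_add' := tl_add

theorem tl_C (a : R) : tl (PowerSeries.C a) = PowerSeries.C (PowerSeries.C a) := by
  rw [← Polynomial.coe_C, tl_polynomial]; simp

theorem tl_X : tl (PowerSeries.X : PowerSeries R) = PowerSeries.C PowerSeries.X + PowerSeries.X := by
  rw [← Polynomial.coe_X, tl_polynomial]; simp

theorem constantCoeff_tl (f : PowerSeries R) : constantCoeff (tl f) = f := by
  ext n
  rw [← coeff_zero_eq_constantCoeff_apply, coeff_tl]
  simp

end Groth.Agent.Lib.FunFld.Hasse.Taylor
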