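import Groth.Agent.Lib.FunFld.Hasse.Family
import Groth.Agent.Lib.FunFld.Hasse.Taylor
import Groth.Agent.Lib.FunFld.Place
import Mathlib.RingTheory.Valuation.ValuationSubring

/-! Hasse derivatives read through an expansion. -/

namespace Groth.Agent.Lib.FunFld.Hasse.Formula

open WithZero
open Groth.Agent.Lib.FunFld.Place
open Groth.Agent.Lib.FunFld.Hasse

universe u v w
variable {k : Type u} {K : Type v} [Field k] [Field K] [Algebra k K]

/-- An expansion maps the valuation ring into power series. -/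
theorem exists_powerSeries {F : Type w} [Field F] [Algebra k F] {P : _root_.FunFld.Place k K}
    {ψ : K →ₐ[k] LaurentSeries F} (hψ : LocRes.IsExpansionAt P.1 ψ) {z : K} (hz : P.1 z ≤ 1) :
    ∃ f : PowerSeries F, (f : LaurentSeries F) = ψ z :=
  (LaurentSeries.val_le_one_iff_eq_coe F _).mp ((hψ.1 z).trans_le hz)

theorem formula {F : Type w} [Field F] [Algebra k F] {P : _root_.FunFld.Place k K}
    {ψ : K →ₐ[k] LaurentSeries F} (hψ : LocRes.IsExpansionAt P.1 ψ) {t : K}
    (ht : ψ t = HahnSeries.single 1 1) (hsep : Separable.IsSep k t) {H : K →ₐ[k] PowerSeries K}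
    (hH : LocRes.IsHasseFamily t H) {z : K} (hz : P.1 z ≤ 1) (n : ℕ) :
    ψ (LocRes.hasseD H n z) = LaurentSeries.hasseDeriv F n (ψ z) := by
  choose g hg using fun a : P.O => exists_powerSeries hψ (z := (a : K)) a.2
  have hinj : Function.Injective (HahnSeries.ofPowerSeries ℤ F) :=
    HahnSeries.ofPowerSeries_injective
  let ψO : P.O →+* PowerSeries F :=
    { toFun := g
      map_one' := hinj (by rw [hg, map_one, OneMemClass.coe_one, map_one])
      map_mul' := fun a b => hinj (by rw [map_mul, hg, hg, hg, MulMemClass.coe_mul, map_mul])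
      map_zero' := hinj (by rw [hg, map_zero, ZeroMemClass.coe_zero, map_zero])
      map_add' := fun a b => hinj (by rw [map_add, hg, hg, hg, AddMemClass.coe_add, map_add]) }
  let A₀ : P.O →+* PowerSeries (LaurentSeries F) :=
    ((PowerSeries.map (HahnSeries.ofPowerSeries ℤ F) :
      PowerSeries (PowerSeries F) →+* PowerSeries (LaurentSeries F)).comp Taylor.tlHom).comp ψO
  have hc : ∀ a : P.O, PowerSeries.constantCoeff (A₀ a) = ψ a := fun a => by
    change PowerSeries.constantCoeff (PowerSeries.map (HahnSeries.ofPowerSeries ℤ F) (Taylor.tl (g a))) = _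
    rw [← PowerSeries.coeff_zero_eq_constantCoeff_apply, PowerSeries.coeff_map, PowerSeries.coeff_zero_eq_constantCoeff_apply, Taylor.constantCoeff_tl, hg]
  have hu : ∀ a : nonZeroDivisors P.O, IsUnit (A₀ a) := fun a => by
    refine PowerSeries.isUnit_iff_constantCoeff.mpr (isUnit_iff_ne_zero.mpr ?_)
    rw [hc, ne_eq, map_eq_zero]
    exact fun h => nonZeroDivisors.coe_ne_zero a (Subtype.ext h)
  let A : K →+* PowerSeries (LaurentSeries F) := IsLocalization.lift (S := K) (g := A₀) hu
  have hA : ∀ a : P.O, A (a : K) = A₀ a := fun a => IsLocalization.lift_eq hu a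
  let B : K →+* PowerSeries (LaurentSeries F) := (PowerSeries.map ψ.toRingHom).comp H.toRingHom
  have ht1 : P.1 t ≤ 1 := by
    rw [← hψ.1 t, ht, LaurentSeries.valuation_single_zpow, ← exp_zero, exp_le_exp]; norm_num
  have hconst : PowerSeries.constantCoeff.comp A = ψ.toRingHom :=
    IsLocalization.ringHom_ext (nonZeroDivisors P.O) (RingHom.ext fun a => by
      change PowerSeries.constantCoeff (A (a : K)) = ψ (a : K)
      rw [hA, hc])
  have hAB : A = B := by
    refine Family.hom_unique hsep A B (fun c => ?_) ?_ fun y => ?_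
    · have hmem : algebraMap k K c ∈ P.O := val_algebraMap_le P c
      have hgc : g ⟨_, hmem⟩ = PowerSeries.C (algebraMap k F c) := hinj (by
        rw [hg, HahnSeries.ofPowerSeries_C, ← LocRes.map_algebraMap ψ c])
      rw [show algebraMap k K c = ((⟨_, hmem⟩ : P.O) : K) from rfl, hA]
      change PowerSeries.map (HahnSeries.ofPowerSeries ℤ F) (Taylor.tl (g _)) = PowerSeries.map ψ.toRingHom (H _)
      rw [hgc, Taylor.tl_C, show ((⟨_, hmem⟩ : P.O) : K) = algebraMap k K c from rfl, H.commutes,
        PowerSeries.algebraMap_apply, PowerSeries.map_C, PowerSeries.map_C,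
        HahnSeries.ofPowerSeries_C]
      congr 1
      exact (LocRes.map_algebraMap ψ c).symm
    · have hgt : g ⟨t, ht1⟩ = PowerSeries.X := hinj (by rw [hg, HahnSeries.ofPowerSeries_X]; exact ht)
      rw [show t = ((⟨t, ht1⟩ : P.O) : K) from rfl, hA]
      change PowerSeries.map (HahnSeries.ofPowerSeries ℤ F) (Taylor.tl (g _)) = PowerSeries.map ψ.toRingHom (H t)
      rw [hgt, Taylor.tl_X, hH.1, map_add, map_add, PowerSeries.map_C, PowerSeries.map_C,
        PowerSeries.map_X, PowerSeries.map_X, HahnSeries.ofPowerSeries_X]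
      congr 2
      exact ht.symm
    · have h1 : PowerSeries.constantCoeff (A y) = ψ y := RingHom.congr_fun hconst y
      rw [h1]
      change ψ y = PowerSeries.constantCoeff (PowerSeries.map ψ.toRingHom (H y))
      rw [← PowerSeries.coeff_zero_eq_constantCoeff_apply, PowerSeries.coeff_map, PowerSeries.coeff_zero_eq_constantCoeff_apply, hH.2]; rfl
  have h := congrArg (PowerSeries.coeff n) (RingHom.congr_fun hAB z)
  rw [show z = ((⟨z, hz⟩ : P.O) : K) from rfl, hA] at h
  change PowerSeries.coeff n (PowerSeries.map (HahnSeries.ofPowerSeries ℤ F) (Taylor.tl (g _))) =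
    PowerSeries.coeff n (PowerSeries.map ψ.toRingHom (H z)) at h
  rw [PowerSeries.coeff_map, PowerSeries.coeff_map, Taylor.tl, PowerSeries.coeff_mk] at h
  change ψ (PowerSeries.coeff n (H z)) = _
  rw [← hg ⟨z, hz⟩, Taylor.hd_coe]
  exact h.symm

/-- Hasse derivatives with respect to a uniformizer preserve the valuation ring. -/
theorem val_hasseD_le {F : Type w} [Field F] [Algebra k F] {P : _root_.FunFld.Place k K}
    {ψ : K →ₐ[k] LaurentSeries F} (hψ : LocRes.IsExpansionAt P.1 ψ) {t : K}
    (ht : ψ t = HahnSeries.single 1 1) (hsep : Separable.IsSep k t) {H : K →ₐ[k] PowerSeries K}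
    (hH : LocRes.IsHasseFamily t H) {z : K} (hz : P.1 z ≤ 1) (n : ℕ) :
    P.1 (LocRes.hasseD H n z) ≤ 1 := by
  obtain ⟨f, hf⟩ := exists_powerSeries hψ hz
  rw [← hψ.1, formula hψ ht hsep hH hz n, ← hf, Taylor.hd_coe,
    LaurentSeries.val_le_one_iff_eq_coe]
  exact ⟨_, rfl⟩

theorem coeff_zero_hasseD {F : Type w} [Field F] [Algebra k F] {P : _root_.FunFld.Place k K}
    {ψ : K →ₐ[k] LaurentSeries F} (hψ : LocRes.IsExpansionAt P.1 ψ) {t : K}
    (ht : ψ t = HahnSeries.single 1 1) (hsep : Separable.IsSep k t) {H : K →ₐ[k] PowerSeries K}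
    (hH : LocRes.IsHasseFamily t H) {z : K} (hz : P.1 z ≤ 1) (n : ℕ) :
    (ψ (LocRes.hasseD H n z)).coeff 0 = (ψ z).coeff n := by
  rw [formula hψ ht hsep hH hz n, LaurentSeries.hasseDeriv_coeff, zero_add, Ring.choose_natCast,
    Nat.choose_self]
  simp

end Groth.Agent.Lib.FunFld.Hasse.Formula
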