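import Groth.Agent.Lib.FunFld.Hasse.Diff
import Groth.Agent.Lib.FunFld.Res.Omega

/-! Degree and positivity of the Weierstrass divisor. -/

namespace Groth.Agent.Lib.FunFld.Hasse.Wdiv

open WithZero Submodule
open Groth.Agent.Lib.FunFld Groth.Agent.Lib.FunFld.Hasse

universe u v w
variable {k : Type u} {K : Type v} [Field k] [Field K] [Algebra k K]

theorem exists_local [IsAlgClosed k] (hK : FunFld.IsFunctionField k K)
    (P : _root_.FunFld.Place k K) :
    ∃ (t : K) (ψ : K →ₐ[k] LaurentSeries k) (Ht : K →ₐ[k] PowerSeries K),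
      P.1 t = exp (-1) ∧ LocRes.IsExpansionAt P.1 ψ ∧ ψ t = HahnSeries.single 1 1 ∧
      LocRes.IsHasseFamily t Ht := by
  obtain ⟨t, -, ht⟩ := Place.exists_uniformizer P
  obtain ⟨ψ, hψ, hψt⟩ := Param.exists_expansion hK ht
  have htr : Transcendental k t := Existence.transcendental_of_ord_ne_zero hK P (by
    rw [Place.ord_eq_of_val_eq_exp P ht]; norm_num)
  have hsep : Separable.IsSep k t := Separable.isSep_of_D_ne_zero hK (Separable.exists_isSep hK)
    fun h0 => by
      have h1 := Res.SepRes.D_eq_zero_of_kaehler ψ h0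
      have h2 : (LocRes.D k (ψ t)).coeff 0 = 0 := by rw [h1]; rfl
      rw [hψt, LocRes.D_coeff, zero_add, HahnSeries.coeff_single_same, one_smul] at h2
      exact one_ne_zero h2
  obtain ⟨Ht, hHt⟩ := Family.exists_hasse hK htr hsep
  exact ⟨t, ψ, Ht, ht, hψ, hψt, hHt⟩

theorem exists_expansions [IsAlgClosed k] (hK : FunFld.IsFunctionField k K) :
    ∃ Φ : _root_.FunFld.Place k K → (K →ₐ[k] LaurentSeries k),
      ∀ P : _root_.FunFld.Place k K, LocRes.IsExpansionAt P.1 (Φ P) :=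
  ⟨fun P => (exists_local hK P).choose_spec.choose, fun P =>
    (exists_local hK P).choose_spec.choose_spec.choose_spec.2.1⟩

theorem deg_eq_one [IsAlgClosed k] (hK : FunFld.IsFunctionField k K) (P : _root_.FunFld.Place k K) :
    P.deg = 1 := by
  have := (LinearEquiv.ofBijective (Algebra.linearMap k (IsLocalRing.ResidueField P.O))
    (Param.res_bijective hK P)).finrank_eq
  rw [Module.finrank_self] at this
  exact this.symm

/-- Normalisation of a tuple at a place. -/
theorem exists_normalized {n : ℕ} (P : _root_.FunFld.Place k K) (φ : Fin (n + 1) → K)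
    (hφ : LinearIndependent k φ) :
    ∃ y : K, y ≠ 0 ∧ LinearIndependent k (fun i => y * φ i) ∧ (∀ i, P.1 (y * φ i) ≤ 1) ∧
      (1 : K) ∈ span k (Set.range fun i => y * φ i) := by
  obtain ⟨i₀, -, hmax⟩ := Finset.exists_max_image Finset.univ (fun i => P.1 (φ i)) Finset.univ_nonempty
  have hy : (φ i₀)⁻¹ ≠ 0 := inv_ne_zero (hφ.ne_zero i₀)
  refine ⟨(φ i₀)⁻¹, hy,
    hφ.map' (LinearMap.mulLeft k (φ i₀)⁻¹) (LinearMap.ker_eq_bot.mpr (mul_right_injective₀ hy)),
    fun i => ?_, subset_span ⟨i₀, inv_mul_cancel₀ (hφ.ne_zero i₀)⟩⟩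
  rw [map_mul, map_inv₀]
  exact inv_mul_le_one_of_le₀ (hmax i (Finset.mem_univ i)) zero_le

theorem finiteDimensional_fieldRange (hK : FunFld.IsFunctionField k K) (τ : K →ₐ[k] K) :
    FiniteDimensional τ.fieldRange K := by
  obtain ⟨x, hx⟩ := Riemann.exists_transcendental hK
  have htr : Transcendental k (τ x) := fun h => hx
    ((isAlgebraic_algHom_iff τ τ.injective).mp h)
  have := Bound.finiteDimensional_adjoin_transcendental hK htr
  have hle : IntermediateField.adjoin k ({τ x} : Set K) ≤ τ.fieldRange := by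
    rw [IntermediateField.adjoin_simple_le_iff]
    exact ⟨x, rfl⟩
  exact (inferInstance : FiniteDimensional (IntermediateField.extendScalars hle) K)

theorem deg_mapDiv_comp {L : Type w} [Field L] [Algebra k L] (hK : FunFld.IsFunctionField k K)
    (τ : K →ₐ[k] L) [hfin : FiniteDimensional τ.fieldRange L] {ι : Type*} [Fintype ι] [Nonempty ι]
    (φ : ι → K) :
    (FunFld.mapDiv k (τ ∘ φ)).deg = Module.finrank τ.fieldRange L * (FunFld.mapDiv k φ).deg := by
  let _ : Algebra K L := τ.toRingHom.toAlgebra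
  have : IsScalarTower k K L := IsScalarTower.of_algebraMap_eq fun c => (τ.commutes c).symm
  have he : Module.finrank K L = Module.finrank τ.fieldRange L :=
    Algebra.finrank_eq_of_equiv_equiv (AlgEquiv.ofInjectiveField τ).toRingEquiv (RingEquiv.refl L)
      (RingHom.ext fun _ => rfl)
  have : FiniteDimensional K L :=
    Module.finite_of_finrank_pos (he ▸ Module.finrank_pos)
  rw [show (τ ∘ φ) = fun i => algebraMap K L (φ i) from rfl, MapDiv.mapDiv_map hK,
    Ext.deg_conorm hK, he]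

theorem isCanonical_divDiff [IsAlgClosed k] (hK : FunFld.IsFunctionField k K)
    (Φ : _root_.FunFld.Place k K → (K →ₐ[k] LaurentSeries k))
    (hΦ : ∀ P : _root_.FunFld.Place k K, LocRes.IsExpansionAt P.1 (Φ P)) {s : K}
    {H : K →ₐ[k] PowerSeries K} (hH : LocRes.IsHasseFamily s H) :
    FunFld.IsCanonical k K (FunFld.divDiff Φ 1 s) := by
  have hD : KaehlerDifferential.D k K s ≠ 0 := by
    obtain ⟨P, -⟩ := Existence.exists_zero hK (Riemann.exists_transcendental hK).choose_spec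
    intro h0
    refine Diff.D_ne_zero hK (hΦ P) hH ?_
    exact Res.SepRes.D_eq_zero_of_kaehler (Φ P) h0
  obtain ⟨C, hC, hCv⟩ := Res.Omega.exists_canonical (F := fun _ => k) Φ hΦ hK
    (Separable.exists_isSep hK) one_ne_zero hD
  rwa [show FunFld.divDiff Φ 1 s = C from Finsupp.ext fun P => by
    rw [Diff.divDiff_apply hK Φ hΦ hH, hCv]]

variable {n : ℕ}

/-- The degree of the Weierstrass divisor. -/
theorem deg_wDiv [IsAlgClosed k] (hK : FunFld.IsFunctionField k K) (τ : K →ₐ[k] K)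
    (Φ : _root_.FunFld.Place k K → (K →ₐ[k] LaurentSeries k))
    (hΦ : ∀ P : _root_.FunFld.Place k K, LocRes.IsExpansionAt P.1 (Φ P)) {s : K}
    {H : K →ₐ[k] PowerSeries K} (hH : LocRes.IsHasseFamily s H) (φ : Fin (n + 1) → K)
    (J : Fin n → ℕ) :
    (FunFld.wDiv τ H Φ s φ J).deg =
      ((Module.finrank τ.fieldRange K : ℤ) + n) * (FunFld.mapDiv k φ).deg +
        (2 * (FunFld.genus k K : ℤ) - 2) * ∑ l, (J l : ℤ) := by
  have := finiteDimensional_fieldRange hK τ
  rw [FunFld.wDiv, Degree.deg_add, Degree.deg_add, Degree.deg_add, Degree.deg_smul, Degree.deg_smul,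
    Degree.deg_div hK, deg_mapDiv_comp hK τ φ, Weil.deg_canonical hK (isCanonical_divDiff hK Φ hΦ hH)]
  ring

/-- The Weierstrass divisor is effective. -/
theorem wDiv_nonneg [IsAlgClosed k] (hK : FunFld.IsFunctionField k K) (τ : K →ₐ[k] K)
    (Φ : _root_.FunFld.Place k K → (K →ₐ[k] LaurentSeries k))
    (hΦ : ∀ P : _root_.FunFld.Place k K, LocRes.IsExpansionAt P.1 (Φ P)) {s : K}
    {H : K →ₐ[k] PowerSeries K} (hH : LocRes.IsHasseFamily s H) {φ : Fin (n + 1) → K}
    (hφ : LinearIndependent k φ) {J : Fin n → ℕ} (hJ : FunFld.IsOrders K (FunFld.hcol τ H φ) J) :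
    0 ≤ FunFld.wDiv τ H Φ s φ J := by
  intro P
  obtain ⟨y, hy, hli, hint, heff⟩ := exists_normalized P φ hφ
  obtain ⟨t, ψ, Ht, ht, hψ, hψt, hHt⟩ := exists_local hK P
  obtain ⟨hJt, hW⟩ := Diff.wDiv_invariant hK hφ τ hH hHt hJ (A := 1)
    (by rw [Matrix.det_one]; exact one_ne_zero) hy (φ' := fun i => y * φ i)
    (fun i => by simp [Matrix.one_apply, ite_smul]) Φ hΦ
  rw [← hW, Finsupp.coe_zero, Pi.zero_apply]
  set φ' : Fin (n + 1) → K := fun i => y * φ i
  rw [Diff.wDiv_apply hK τ Φ hΦ hHt, (Diff.ordDiff_uniformizer (hΦ P) ht).1, mul_zero, add_zero,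
    Diff.mapDiv_normalized hK (fun i => hli.ne_zero i) hint heff, mul_zero, add_zero]
  have hτne : ∀ i, (τ ∘ φ') i ≠ 0 := fun i => (map_ne_zero τ).mpr (hli.ne_zero i)
  obtain ⟨hle, -⟩ := Diff.exp_mapDiv hK hτne P
  set m := FunFld.mapDiv k (τ ∘ φ') P
  have hdet := Param.det_ne_zero τ φ' ⟨0, hli.ne_zero 0⟩ hJt
  have hbound : P.1 (FunFld.wrMat τ Ht φ' J).det ≤ exp m := by
    classical
    rw [Matrix.det_apply]
    refine P.1.map_sum_le fun σ _ => ?_
    have hsign : ∀ z : K, P.1 (Equiv.Perm.sign σ • z) = P.1 z := fun z => by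
      rcases Int.units_eq_one_or (Equiv.Perm.sign σ) with h | h <;> simp [h]
    rw [hsign, map_prod, Fin.prod_univ_succ]
    refine (mul_le_mul' (show P.1 (FunFld.wrMat τ Ht φ' J (σ 0) 0) ≤ exp m from ?_)
      (Finset.prod_le_one' fun l _ => ?_)).trans_eq (mul_one _)
    · simpa [FunFld.wrMat] using hle (σ 0)
    · simpa [FunFld.wrMat, φ'] using
        Formula.val_hasseD_le hψ hψt (Param.isSep_of_family hK hHt) hHt (hint (σ l.succ)) (J l)
  rw [Place.val_eq_exp P hdet, exp_le_exp] at hbound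
  omega

theorem weight_ge_of_fixed [IsAlgClosed k] (hK : FunFld.IsFunctionField k K) {τ : K →ₐ[k] K}
    {P : _root_.FunFld.Place k K} (hP : FunFld.IsStrongFixedPt τ P) (hn : 0 < n)
    (Φ : _root_.FunFld.Place k K → (K →ₐ[k] LaurentSeries k))
    (hΦ : ∀ P : _root_.FunFld.Place k K, LocRes.IsExpansionAt P.1 (Φ P)) {s : K}
    {H : K →ₐ[k] PowerSeries K} (hH : LocRes.IsHasseFamily s H) {φ : Fin (n + 1) → K}
    (hφ : LinearIndependent k φ) {J : Fin n → ℕ} (hJ : FunFld.IsOrders K (FunFld.hcol τ H φ) J) :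
    (n : ℤ) ≤ FunFld.wDiv τ H Φ s φ J P := by
  obtain ⟨y, hy, hli, hint, heff⟩ := exists_normalized P φ hφ
  obtain ⟨t, ψ, Ht, ht, hψ, hψt, hHt⟩ := exists_local hK P
  obtain ⟨hJt, hW⟩ := Diff.wDiv_invariant hK hφ τ hH hHt hJ (A := 1)
    (by rw [Matrix.det_one]; exact one_ne_zero) hy (φ' := fun i => y * φ i)
    (fun i => by simp [Matrix.one_apply, ite_smul]) Φ hΦ
  rw [← hW]
  set φ' : Fin (n + 1) → K := fun i => y * φ i
  have hfix := Local.isFixedPt_of_strong hP
  obtain ⟨J', hJ'⟩ := Diff.exists_orders_at hK hli heff hint ht hHt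
  obtain ⟨I, hI, hdetI, hle⟩ := Local.exists_binom (k := k) hJ'.1 hn
  have h := (Local.val_det φ' hK hfix hψ hψt ht hHt hli heff hint hJ' I).2 (Or.inr hP)
  have hne : (FunFld.wrMat τ Ht φ' I).det ≠ 0 := fun h0 => by
    have := h.mpr hdetI
    rw [h0, map_zero] at this
    exact exp_ne_zero this.symm
  have hJI := Jumps.orders_le (Param.hcol_zero_ne_zero τ φ' ⟨0, hli.ne_zero 0⟩ Ht) hJt hI
    ((Jumps.det_ne_zero_iff I).mp (Jumps.wrMat_det τ Ht φ' I ▸ hne))
  have hpos : 0 < J' ⟨0, hn⟩ :=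
    ((Local.isJump_hcolAt_iff φ' hK hψ hψt hHt hint _).mp ((hJ'.2 _).mp ⟨⟨0, hn⟩, rfl⟩)).1
  have h1 := (Local.val_det φ' hK hfix hψ hψt ht hHt hli heff hint hJ' J).1
  rw [Place.val_eq_exp P (Param.det_ne_zero τ φ' ⟨0, hli.ne_zero 0⟩ hJt), exp_le_exp,
    neg_le_neg_iff] at h1
  rw [Diff.wDiv_fixed hK hfix hli heff hint ht hHt Φ hΦ]
  refine le_trans ?_ h1
  calc (n : ℤ) = ∑ _l : Fin n, (1 : ℤ) := by simp
    _ ≤ _ := Finset.sum_le_sum fun l _ => by
      have := hJI l
      have := hle l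
      omega

end Groth.Agent.Lib.FunFld.Hasse.Wdiv
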