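import Groth.Agent.Lib.FunFld.Hasse.Separable
import Groth.Prelude.Def_LocRes
import Mathlib.RingTheory.AdicCompletion.Completeness
import Mathlib.RingTheory.Henselian
import Mathlib.FieldTheory.PrimitiveElement
import Mathlib.RingTheory.PowerSeries.Inverse

/-! Existence and uniqueness of total Hasse derivatives. -/

namespace Groth.Agent.Lib.FunFld.Hasse.Family

open IntermediateField
open Groth.Agent.Lib.FunFld.Hasse.Separable

universe u v w
variable {k : Type u} {K : Type v} [Field k] [Field K] [Algebra k K]

theorem hensel_unique {S : Type w} [CommRing S] [IsDomain S] (G : Polynomial S) (c : S →+* K)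
    {a b : S} (ha : G.eval a = 0) (hb : G.eval b = 0) (hc : c a = c b)
    (hd : c (G.derivative.eval b) ≠ 0) : a = b := by
  obtain ⟨⟨q, hq⟩⟩ : Nonempty _ := ⟨Polynomial.binomExpansion G b (a - b)⟩
  rw [add_sub_cancel, ha, hb, zero_add, sq, ← mul_assoc, ← add_mul] at hq
  rcases mul_eq_zero.mp hq.symm with h | h
  · have := congrArg c h
    rw [map_add, map_mul, map_sub, hc, sub_self, mul_zero, add_zero, map_zero] at this
    exact absurd this hd
  · exact sub_eq_zero.mp h

/-- Homomorphisms to power series are determined by their reduction and their value at a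
separating element. -/
theorem hom_unique {R : Type w} [Field R] {x : K} (hx : IsSep k x)
    (A B : K →+* PowerSeries R) (hk : ∀ c : k, A (algebraMap k K c) = B (algebraMap k K c))
    (hxAB : A x = B x)
    (h0 : ∀ z, PowerSeries.constantCoeff (A z) = PowerSeries.constantCoeff (B z)) : A = B := by
  set F := adjoin k ({x} : Set K)
  have hF : ∀ a ∈ F, A a = B a := by
    intro a ha
    induction ha using IntermediateField.adjoin_induction with
    | mem z hz => rw [Set.mem_singleton_iff.mp hz]; exact hxAB
    | algebraMap c => exact hk c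
    | add a b _ _ ha hb => rw [map_add, map_add, ha, hb]
    | mul a b _ _ ha hb => rw [map_mul, map_mul, ha, hb]
    | inv a _ ha =>
      rcases eq_or_ne a 0 with rfl | ha0
      · rw [inv_zero, map_zero, map_zero]
      have h1 : A a * A a⁻¹ = 1 := by rw [← map_mul, mul_inv_cancel₀ ha0, map_one]
      have h2 : A a * B a⁻¹ = 1 := by rw [ha, ← map_mul, mul_inv_cancel₀ ha0, map_one]
      exact mul_left_cancel₀ (left_ne_zero_of_mul_eq_one h1) (h1.trans h2.symm)
  refine RingHom.ext fun y => ?_
  have hsep := @Algebra.IsSeparable.isSeparable F K _ _ _ hx y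
  set g := (minpoly F y).map (algebraMap F K) with hg
  have hmap : g.map A = g.map B := by
    rw [hg, Polynomial.map_map, Polynomial.map_map]
    congr 1
    exact RingHom.ext fun a => hF a a.2
  have hgy : g.eval y = 0 := by
    rw [hg, Polynomial.eval_map_algebraMap]; exact minpoly.aeval F y
  have hroot : ∀ C : K →+* PowerSeries R, (g.map C).eval (C y) = 0 := fun C => by
    rw [Polynomial.eval_map_apply, hgy, map_zero]
  refine hensel_unique (g.map A) PowerSeries.constantCoeff (hroot A) (hmap ▸ hroot B) (h0 y) ?_
  rw [hmap, Polynomial.derivative_map, Polynomial.eval_map_apply, hg, Polynomial.derivative_map,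
    Polynomial.eval_map_algebraMap]
  intro h
  refine hsep.aeval_derivative_ne_zero (minpoly.aeval F y) ?_
  exact (PowerSeries.constantCoeff.comp B).injective (h.trans (map_zero _).symm)

theorem hasse_unique {x : K} (hx : IsSep k x) {H H' : K →ₐ[k] PowerSeries K}
    (hH : LocRes.IsHasseFamily x H) (hH' : LocRes.IsHasseFamily x H') : H = H' :=
  AlgHom.coe_ringHom_injective (hom_unique hx H.toRingHom H'.toRingHom
    (fun c => (H.commutes c).trans (H'.commutes c).symm) (hH.1.trans hH'.1.symm)
    fun z => (hH.2 z).trans (hH'.2 z).symm)

/-- Existence of the total Hasse derivative. -/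
theorem exists_hasse (hK : FunFld.IsFunctionField k K) {x : K} (ht : Transcendental k x)
    (hx : IsSep k x) : ∃ H : K →ₐ[k] PowerSeries K, LocRes.IsHasseFamily x H := by
  set F := adjoin k ({x} : Set K)
  have hfd : FiniteDimensional F K := Bound.finiteDimensional_adjoin_transcendental hK ht
  have hsep : Algebra.IsSeparable F K := hx
  let gx : F := ⟨x, mem_adjoin_simple_self k x⟩
  let _ : Algebra (Polynomial k) F := (Polynomial.aeval gx).toRingHom.toAlgebra
  have hmap : ∀ p : Polynomial k, ((algebraMap (Polynomial k) F p : F) : K) = Polynomial.aeval x p :=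
    fun p => (Polynomial.aeval_algHom_apply (IntermediateField.val F) gx p).symm
  have : FaithfulSMul (Polynomial k) F := by
    rw [faithfulSMul_iff_algebraMap_injective]
    intro a b hab
    have := congrArg (Subtype.val : F → K) hab
    rw [hmap, hmap] at this
    exact transcendental_iff_injective.mp ht this
  have hfrac : IsFractionRing (Polynomial k) F :=
    IsFractionRing.of_field (R := Polynomial k) (K := F) fun z => by
      obtain ⟨r, s, hrs⟩ := (IntermediateField.mem_adjoin_simple_iff k (z : K)).mp z.2
      exact ⟨r, s, Subtype.ext (by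
        rw [show (((algebraMap (Polynomial k) F r) / (algebraMap (Polynomial k) F s) : F) : K) =
          ((algebraMap (Polynomial k) F r : F) : K) / ((algebraMap (Polynomial k) F s : F) : K) from
          rfl, hmap, hmap]
        exact hrs)⟩
  let φ₀ : Polynomial k →ₐ[k] PowerSeries K := Polynomial.aeval (PowerSeries.C x + PowerSeries.X)
  have hc₀ : ∀ p, PowerSeries.constantCoeff (φ₀ p) = Polynomial.aeval x p := by
    intro p
    induction p using Polynomial.induction_on' with
    | add p q hp hq => rw [map_add, map_add, map_add, hp, hq]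
    | monomial n a => simp [φ₀, PowerSeries.algebraMap_apply]
  have hu : ∀ s : nonZeroDivisors (Polynomial k), IsUnit (φ₀ s) := fun s => by
    refine PowerSeries.isUnit_iff_constantCoeff.mpr (isUnit_iff_ne_zero.mpr ?_)
    rw [hc₀]
    intro h
    exact nonZeroDivisors.coe_ne_zero s (transcendental_iff_injective.mp ht
      (h.trans (map_zero _).symm))
  let φ : F →+* PowerSeries K := IsLocalization.lift (g := φ₀.toRingHom) hu
  have hφ : ∀ p, φ (algebraMap (Polynomial k) F p) = φ₀ p := fun p => IsLocalization.lift_eq hu p
  have hcφ : PowerSeries.constantCoeff.comp φ = algebraMap F K :=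
    IsLocalization.ringHom_ext (nonZeroDivisors (Polynomial k)) (RingHom.ext fun p => by
      change PowerSeries.constantCoeff (φ (algebraMap (Polynomial k) F p)) = _
      rw [hφ, hc₀, ← hmap]; rfl)
  let pb := Field.powerBasisOfFiniteOfSeparable F K
  set g := minpoly F pb.gen
  set G := g.map φ
  have hGc : ∀ q : Polynomial F, PowerSeries.constantCoeff ((q.map φ).eval (PowerSeries.C pb.gen)) =
      Polynomial.aeval pb.gen q := fun q => by
    rw [← Polynomial.eval_map_apply, Polynomial.map_map, hcφ, PowerSeries.constantCoeff_C,
      Polynomial.eval_map_algebraMap]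
  have hg : g.Monic := minpoly.monic pb.isIntegral_gen
  obtain ⟨a, ha, haI⟩ := HenselianRing.is_henselian
    (I := Ideal.span {(PowerSeries.X : PowerSeries K)}) G (hg.map φ) (PowerSeries.C pb.gen)
    (by rw [Ideal.mem_span_singleton, PowerSeries.X_dvd_iff, hGc, minpoly.aeval])
    (by
      refine IsUnit.map _ (PowerSeries.isUnit_iff_constantCoeff.mpr (isUnit_iff_ne_zero.mpr ?_))
      rw [Polynomial.derivative_map, hGc]
      exact (Algebra.IsSeparable.isSeparable F pb.gen).aeval_derivative_ne_zero (minpoly.aeval _ _))
  rw [Ideal.mem_span_singleton, PowerSeries.X_dvd_iff, map_sub, PowerSeries.constantCoeff_C,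
    sub_eq_zero] at haI
  let _ : Algebra F (PowerSeries K) := φ.toAlgebra
  have ha' : Polynomial.aeval a g = 0 := by
    rw [← Polynomial.eval_map_algebraMap]; exact ha
  let H := pb.lift a ha'
  have hH : ∀ z : F, H (z : K) = φ z := fun z => H.commutes z
  refine ⟨{ H.toRingHom with commutes' := fun c => ?_ }, ?_, ?_⟩
  · have e : algebraMap k K c = ((algebraMap (Polynomial k) F (Polynomial.C c) : F) : K) := by
      rw [hmap, Polynomial.aeval_C]
    change H (algebraMap k K c) = _
    rw [e, hH, hφ]
    exact Polynomial.aeval_C _ _
  · have e : x = ((algebraMap (Polynomial k) F Polynomial.X : F) : K) := by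
      rw [hmap, Polynomial.aeval_X]
    change H x = _
    conv_lhs => rw [e, hH, hφ]
    exact Polynomial.aeval_X _
  · intro y
    let c : K →ₐ[F] K :=
      { (PowerSeries.constantCoeff (R := K)).comp H.toRingHom with
        commutes' := fun z => by
          change PowerSeries.constantCoeff (H (z : K)) = _
          rw [hH]; exact RingHom.congr_fun hcφ z }
    have h : c = AlgHom.id F K := pb.algHom_ext (by
      change PowerSeries.constantCoeff (H pb.gen) = pb.gen
      rw [pb.lift_gen, haI])
    exact AlgHom.congr_fun h y

end Groth.Agent.Lib.FunFld.Hasse.Family
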