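import Groth.Agent.Lib.FunFld.Riemann
import Mathlib.RingTheory.Kaehler.Basic
import Mathlib.RingTheory.Unramified.Field
import Mathlib.FieldTheory.SeparablyGenerated
import Mathlib.FieldTheory.IntermediateField.Adjoin.Algebra

/-! Separating elements and differentials. -/

namespace Groth.Agent.Lib.FunFld.Hasse.Separable

open IntermediateField

universe u v w
variable {k : Type u} {K : Type v} [Field k] [Field K] [Algebra k K]

/-- `x` is a separating element of `K/k`. -/
def IsSep (k : Type u) [Field k] [Algebra k K] (x : K) : Prop :=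
  Algebra.IsSeparable (adjoin k ({x} : Set K)) K

/-- A derivation vanishing at a separating element vanishes. -/
theorem derivation_eq_zero {M : Type w} [AddCommGroup M] [Module K M] [Module k M]
    [IsScalarTower k K M] {x : K} (hx : IsSep k x) (d : Derivation k K M) (h : d x = 0) : d = 0 := by
  set F := adjoin k ({x} : Set K)
  have hF : ∀ a ∈ F, d a = 0 := by
    intro a ha
    induction ha using IntermediateField.adjoin_induction with
    | mem z hz => rw [Set.mem_singleton_iff.mp hz]; exact h
    | algebraMap c => exact d.map_algebraMap c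
    | add a b _ _ ha hb => rw [map_add, ha, hb, add_zero]
    | mul a b _ _ ha hb => rw [Derivation.leibniz, ha, hb, smul_zero, smul_zero, add_zero]
    | inv a _ ha =>
      rcases eq_or_ne a 0 with rfl | ha0
      · rw [inv_zero, map_zero]
      have h1 := d.leibniz a a⁻¹
      rw [mul_inv_cancel₀ ha0, Derivation.map_one_eq_zero, ha, smul_zero, add_zero] at h1
      exact (smul_eq_zero.mp h1.symm).resolve_left ha0
  have : IsScalarTower F K M := ⟨fun a b m => (smul_smul (a : K) b m).symm⟩
  let d' : Derivation F K M :=
    { toFun := d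
      map_add' := d.map_add
      map_smul' := fun a b => by
        change d ((a : K) * b) = (a : K) • d b
        rw [Derivation.leibniz, hF a a.2, smul_zero, add_zero]
      map_one_eq_zero' := d.map_one_eq_zero
      leibniz' := d.leibniz }
  have : Algebra.IsSeparable F K := hx
  have hu : Algebra.FormallyUnramified F K := Algebra.FormallyUnramified.of_isSeparable F K
  have h0 : d' = 0 := by
    refine Derivation.ext fun a => ?_
    have h1 : KaehlerDifferential.D F K a = 0 := Subsingleton.elim _ _
    have h2 := d'.liftKaehlerDifferential_comp_D a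
    rw [h1, map_zero] at h2
    exact h2.symm
  exact Derivation.ext fun a => DFunLike.congr_fun h0 a

theorem span_D_eq_top {x : K} (hx : IsSep k x) :
    Submodule.span K {KaehlerDifferential.D k K x} = ⊤ := by
  set N := Submodule.span K {KaehlerDifferential.D k K x}
  have h := derivation_eq_zero hx (N.mkQ.compDer (KaehlerDifferential.D k K))
    ((Submodule.Quotient.mk_eq_zero N).mpr (Submodule.mem_span_singleton_self _))
  rw [eq_top_iff, ← KaehlerDifferential.span_range_derivation, Submodule.span_le]
  rintro _ ⟨a, rfl⟩
  exact (Submodule.Quotient.mk_eq_zero N).mp (DFunLike.congr_fun h a)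

theorem transcendental_of_D_ne_zero (hK : FunFld.IsFunctionField k K) {x : K}
    (hx : KaehlerDifferential.D k K x ≠ 0) : Transcendental k x := fun halg => by
  obtain ⟨c, rfl⟩ := hK.2 x halg
  exact hx (Derivation.map_algebraMap _ c)

/-- An element with nonzero differential is separating. -/
theorem isSep_of_D_ne_zero (hK : FunFld.IsFunctionField k K) (hsep : ∃ x₀ : K, IsSep k x₀) {x : K}
    (hx : KaehlerDifferential.D k K x ≠ 0) : IsSep k x := by
  obtain ⟨x₀, hx₀⟩ := hsep
  obtain ⟨a, ha⟩ := Submodule.mem_span_singleton.mp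
    ((span_D_eq_top hx₀).symm ▸ Submodule.mem_top : KaehlerDifferential.D k K x ∈
      Submodule.span K {KaehlerDifferential.D k K x₀})
  have ha0 : a ≠ 0 := fun h => hx (by rw [← ha, h, zero_smul])
  set F := adjoin k ({x} : Set K)
  have := Bound.finiteDimensional_adjoin_transcendental hK (transcendental_of_D_ne_zero hK hx)
  have hsub : Subsingleton (KaehlerDifferential F K) := by
    refine subsingleton_of_forall_eq 0 fun ω => ?_
    obtain ⟨η, rfl⟩ := KaehlerDifferential.map_surjective k F K ω
    obtain ⟨b, rfl⟩ := Submodule.mem_span_singleton.mp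
      ((span_D_eq_top hx₀).symm ▸ Submodule.mem_top : η ∈
        Submodule.span K {KaehlerDifferential.D k K x₀})
    have h0 : KaehlerDifferential.map k F K K (KaehlerDifferential.D k K x) = 0 := by
      rw [KaehlerDifferential.map_D]
      exact Derivation.map_algebraMap _ (⟨x, mem_adjoin_simple_self k x⟩ : F)
    rw [← ha, map_smul, smul_eq_zero] at h0
    rw [map_smul, h0.resolve_left ha0, smul_zero]
  have hu : Algebra.FormallyUnramified F K := ⟨hsub⟩
  exact (Algebra.FormallyUnramified.iff_isSeparable F K).mp hu

theorem exists_isSep_of_basis (hK : FunFld.IsFunctionField k K) (h : ∃ s : Finset K,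
    IsTranscendenceBasis k ((↑) : s → K) ∧
      Algebra.IsSeparable (IntermediateField.adjoin k (s : Set K)) K) :
    ∃ x₀ : K, IsSep k x₀ := by
  obtain ⟨s, hs, hsep⟩ := h
  obtain ⟨t, ht⟩ := Riemann.exists_transcendental hK
  have hb : IsTranscendenceBasis k ![t] :=
    AlgebraicIndependent.isTranscendenceBasis_of_lift_trdeg_le_of_finite
      (algebraicIndependent_iff_transcendental.mpr ht) (by simpa using Bound.trdeg_le_one hK)
  have h1 := hs.lift_cardinalMk_eq_trdeg
  have h2 := hb.lift_cardinalMk_eq_trdeg
  simp only [Cardinal.mk_fintype, Fintype.card_coe, Fintype.card_fin, Cardinal.lift_natCast,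
    Cardinal.lift_id, Cardinal.lift_uzero] at h1 h2
  rw [← h2] at h1
  have hc : s.card = 1 := by exact_mod_cast h1
  obtain ⟨x, rfl⟩ := Finset.card_eq_one.mp hc
  exact ⟨x, by rwa [Finset.coe_singleton] at hsep⟩

theorem essFiniteType (hK : FunFld.IsFunctionField k K) : Algebra.EssFiniteType k K := by
  obtain ⟨S, hS, hStop⟩ := Bound.exists_finite_adjoin_eq_top hK
  exact fg_top_iff.mp ⟨hS.toFinset, by rw [Set.Finite.coe_toFinset, hStop]⟩

theorem exists_isSep [PerfectField k] (hK : FunFld.IsFunctionField k K) :
    ∃ x₀ : K, IsSep k x₀ :=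
  have := essFiniteType hK
  exists_isSep_of_basis hK (exists_isTranscendenceBasis_and_isSeparable_of_perfectField k K)

open scoped TensorProduct in
/-- A geometric function field has a separating element. -/
theorem exists_isSep_of_geometric (hK : FunFld.IsFunctionField k K)
    (hg : FunFld.IsGeometric k K) : ∃ x₀ : K, IsSep k x₀ := by
  obtain _ | ⟨p, hp, hpk⟩ := CharP.exists' k
  · exact exists_isSep hK
  have : ExpChar k p := .prime hp.out
  have := essFiniteType hK
  refine exists_isSep_of_basis hK
    (exists_isTranscendenceBasis_and_isSeparable_of_linearIndepOn_pow_of_essFiniteType p hp.out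
      fun s hs => linearIndepOn_finset_iff.mpr fun c hc i hi => ?_)
  choose r hr using fun j : K => IsAlgClosed.exists_pow_nat_eq
    (algebraMap k (AlgebraicClosure k) (c j)) hp.out.pos
  let k' := IntermediateField.adjoin k (r '' (s : Set K))
  have : FiniteDimensional k k' :=
    IntermediateField.finiteDimensional_adjoin fun x _ => Algebra.IsIntegral.isIntegral x
  have hF : IsField (k' ⊗[k] K) := hg k' inferInstance
  let a : s → k' := fun j => ⟨r j, IntermediateField.subset_adjoin _ _ ⟨j, j.2, rfl⟩⟩
  have ha : ∀ j, a j ^ p = algebraMap k k' (c j) := fun j => Subtype.ext (hr _)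
  have : Nontrivial (k' ⊗[k] K) := hF.nontrivial
  have : CharP (k' ⊗[k] K) p := charP_of_injective_algebraMap
    (algebraMap k (k' ⊗[k] K)).injective p
  have : ExpChar (k' ⊗[k] K) p := .prime hp.out
  let z : k' ⊗[k] K := ∑ j : s, a j ⊗ₜ[k] (j : K)
  have hz : z = 0 := by
    by_contra hne
    obtain ⟨w, hw⟩ := hF.mul_inv_cancel hne
    have h1 : z ^ p * w ^ p = 1 :=
      (mul_pow z w p).symm.trans ((congrArg (fun u : k' ⊗[k] K => u ^ p) hw).trans
        (one_pow (M := k' ⊗[k] K) p))
    suffices hzp : z ^ p = 0 by
      rw [hzp, zero_mul] at h1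
      exact hne (by rw [← mul_one z, ← h1, mul_zero])
    rw [show z ^ p = ∑ j : s, (a j ⊗ₜ[k] (j : K)) ^ p from sum_pow_char (R := k' ⊗[k] K) p Finset.univ _]
    simp only [Algebra.TensorProduct.tmul_pow, ha, Algebra.algebraMap_eq_smul_one,
      TensorProduct.smul_tmul, ← TensorProduct.tmul_sum]
    rw [Finset.sum_coe_sort s fun j => c j • j ^ p, hc, TensorProduct.tmul_zero]
  have h0 : a ⟨i, hi⟩ = 0 := (Module.forall_dual_apply_eq_zero_iff k _).mp fun φ => by
    have h1 := congrArg (TensorProduct.lift ((LinearMap.lsmul k K).comp φ)) hz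
    simp only [z, map_sum, TensorProduct.lift.tmul, LinearMap.comp_apply, LinearMap.lsmul_apply,
      map_zero] at h1
    exact Fintype.linearIndependent_iff.mp hs.linearIndependent _ h1 ⟨i, hi⟩
  have := ha ⟨i, hi⟩
  rw [h0, zero_pow hp.out.ne_zero, eq_comm, map_eq_zero] at this
  exact this

theorem isSep_of_derivation [PerfectField k] (hK : FunFld.IsFunctionField k K) {M : Type w}
    [AddCommGroup M] [Module K M] [Module k M] [IsScalarTower k K M] (d : Derivation k K M) {x : K}
    (h : d x ≠ 0) : IsSep k x :=
  isSep_of_D_ne_zero hK (exists_isSep hK) fun h0 => h (by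
    rw [← d.liftKaehlerDifferential_comp_D x, h0, map_zero])

end Groth.Agent.Lib.FunFld.Hasse.Separable
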