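import Groth.Agent.Lib.FunFld.Place
import Groth.Prelude.Def_LocRes
import Mathlib.RingTheory.PowerSeries.Trunc
import Mathlib.RingTheory.Valuation.ValuationSubring

/-! The expansion at a degree-one place in powers of a uniformizer. -/

namespace Groth.Agent.Lib.FunFld.Hasse.Expansion

open WithZero
open Groth.Agent.Lib.FunFld.Place

universe u v
variable {k : Type u} {K : Type v} [Field k] [Field K] [Algebra k K]

local notation "Pl" => _root_.FunFld.Place k K

/-- Every residue is a constant. -/
def IsDegOne (P : Pl) : Prop := ∀ z : K, P.1 z ≤ 1 → ∃ c : k, P.1 (z - algebraMap k K c) < 1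

variable {P : _root_.FunFld.Place k K} {t : K}

/-- `f` is the expansion of `z` in powers of `t`. -/
def IsExp (P : Pl) (t z : K) (f : PowerSeries k) : Prop :=
  ∀ n : ℕ, P.1 (z - Polynomial.aeval t (PowerSeries.trunc n f)) ≤ exp (-(n : ℤ))

theorem val_aeval_le_one (htu : P.1 t ≤ 1) (p : Polynomial k) :
    P.1 (Polynomial.aeval t p) ≤ 1 := by
  induction p using Polynomial.induction_on' with
  | add p q hp hq => rw [map_add]; exact P.1.map_add_le hp hq
  | monomial n a =>
    rw [Polynomial.aeval_monomial, map_mul, map_pow]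
    exact mul_le_one' (val_algebraMap_le P a) (pow_le_one' htu n)

theorem val_aeval_sub_trunc (ht : P.1 t = exp (-1)) (p : Polynomial k) (n : ℕ) :
    P.1 (Polynomial.aeval t p - Polynomial.aeval t (PowerSeries.trunc n (p : PowerSeries k))) ≤
      exp (-(n : ℤ)) := by
  obtain ⟨q, hq⟩ : (Polynomial.X : Polynomial k) ^ n ∣ p - PowerSeries.trunc n (p : PowerSeries k) := by
    rw [Polynomial.X_pow_dvd_iff]
    intro d hd
    rw [Polynomial.coeff_sub, PowerSeries.coeff_trunc, if_pos hd, Polynomial.coeff_coe, sub_self]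
  rw [← map_sub, hq, map_mul, map_pow, Polynomial.aeval_X, map_mul, map_pow, ht, ← exp_nsmul,
    nsmul_eq_mul, mul_neg, mul_one]
  exact mul_le_of_le_one_right' (val_aeval_le_one (by rw [ht, ← exp_zero, exp_le_exp]; norm_num) q)

theorem exists_isExp (hP : IsDegOne P) (ht : P.1 t = exp (-1)) {z : K} (hz : P.1 z ≤ 1) :
    ∃ f : PowerSeries k, IsExp P t z f := by
  have hpow : ∀ n : ℕ, P.1 (t ^ n) = exp (-(n : ℤ)) := fun n => by
    rw [map_pow, ht, ← exp_nsmul, nsmul_eq_mul, mul_neg, mul_one]
  have step : ∀ (n : ℕ) (p : Polynomial k), P.1 (z - Polynomial.aeval t p) ≤ exp (-(n : ℤ)) →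
      ∃ c : k, P.1 (z - Polynomial.aeval t (p + Polynomial.monomial n c)) ≤ exp (-((n + 1 : ℕ) : ℤ)) := by
    intro n p hp
    have ht0 : t ≠ 0 := by rintro rfl; exact exp_ne_zero ((map_zero P.1).symm.trans ht).symm
    obtain ⟨c, hc⟩ := hP ((z - Polynomial.aeval t p) / t ^ n) (by
      rw [map_div₀, hpow, div_le_one₀ (zero_lt_iff.mpr exp_ne_zero)]; exact hp)
    refine ⟨c, ?_⟩
    have e : z - Polynomial.aeval t (p + Polynomial.monomial n c) =
        ((z - Polynomial.aeval t p) / t ^ n - algebraMap k K c) * t ^ n := by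
      rw [map_add, Polynomial.aeval_monomial]; field_simp [pow_ne_zero n ht0]; ring
    rw [e, map_mul, hpow]
    have h1 : P.1 ((z - Polynomial.aeval t p) / t ^ n - algebraMap k K c) ≤ exp (-1) := by
      rw [val_le_exp_iff]
      rcases (val_lt_one_iff P).mp hc with h | h
      · exact Or.inl h
      · exact Or.inr (by omega)
    calc _ ≤ exp (-1) * exp (-(n : ℤ)) := by gcongr
      _ = _ := by rw [← exp_add]; congr 1; push_cast; ring
  choose! c hc using step
  let S : ℕ → Polynomial k := fun n =>
    Nat.rec 0 (fun m p => p + Polynomial.monomial m (c m p)) n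
  refine ⟨PowerSeries.mk fun n => c n (S n), fun n => ?_⟩
  have key : ∀ n, PowerSeries.trunc n (PowerSeries.mk fun n => c n (S n)) = S n := by
    intro n
    induction n with
    | zero => simp [S]
    | succ n ih => rw [PowerSeries.trunc_succ, ih, PowerSeries.coeff_mk]
  rw [key]
  induction n with
  | zero => simp [S, hz]
  | succ n ih => exact hc n (S n) ih

theorem IsExp.unique (ht : P.1 t = exp (-1)) {z : K} {f g : PowerSeries k} (hf : IsExp P t z f)
    (hg : IsExp P t z g) : f = g := by
  ext n
  induction n using Nat.strong_induction_on with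
  | h n ih =>
    by_contra hne
    have h1 := hf (n + 1)
    have h2 := hg (n + 1)
    have htr : PowerSeries.trunc n f = PowerSeries.trunc n g := by
      ext m
      rw [PowerSeries.coeff_trunc, PowerSeries.coeff_trunc]
      split_ifs with hm
      · exact ih m hm
      · rfl
    rw [PowerSeries.trunc_succ, htr, map_add, Polynomial.aeval_monomial] at h1
    rw [PowerSeries.trunc_succ, map_add, Polynomial.aeval_monomial] at h2
    have h3 := (P.1.map_sub _ _).trans (max_le h2 h1)
    rw [show z - (Polynomial.aeval t (PowerSeries.trunc n g) +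
          algebraMap k K (PowerSeries.coeff n g) * t ^ n) -
        (z - (Polynomial.aeval t (PowerSeries.trunc n g) +
          algebraMap k K (PowerSeries.coeff n f) * t ^ n)) =
      algebraMap k K (PowerSeries.coeff n f - PowerSeries.coeff n g) * t ^ n by rw [map_sub]; ring,
      map_mul, map_pow, ht, val_algebraMap _ (sub_ne_zero.mpr hne), one_mul, ← exp_nsmul,
      nsmul_eq_mul, mul_neg, mul_one, exp_le_exp] at h3
    omega

theorem isExp_aeval (ht : P.1 t = exp (-1)) (p : Polynomial k) :
    IsExp P t (Polynomial.aeval t p) (p : PowerSeries k) := fun n => val_aeval_sub_trunc ht p n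

theorem IsExp.add {z w : K} {f g : PowerSeries k} (hf : IsExp P t z f) (hg : IsExp P t w g) :
    IsExp P t (z + w) (f + g) := fun n => by
  rw [map_add, map_add, add_sub_add_comm]; exact P.1.map_add_le (hf n) (hg n)

theorem IsExp.mul (ht : P.1 t = exp (-1)) {z w : K} (hz : P.1 z ≤ 1) {f g : PowerSeries k}
    (hf : IsExp P t z f) (hg : IsExp P t w g) : IsExp P t (z * w) (f * g) := by
  intro n
  rw [← PowerSeries.trunc_trunc_mul_trunc, ← Polynomial.coe_mul]
  have h1 := val_aeval_sub_trunc (P := P) ht (PowerSeries.trunc n f * PowerSeries.trunc n g) n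
  rw [map_mul] at h1
  set p := Polynomial.aeval t (PowerSeries.trunc n f)
  set q := Polynomial.aeval t (PowerSeries.trunc n g)
  set r := Polynomial.aeval t (PowerSeries.trunc n
    ((PowerSeries.trunc n f * PowerSeries.trunc n g : Polynomial k) : PowerSeries k))
  rw [show z * w - r = z * (w - q) + (z - p) * q + (p * q - r) by ring]
  refine P.1.map_add_le (P.1.map_add_le ?_ ?_) h1
  · rw [map_mul]; exact (mul_le_of_le_one_left' hz).trans (hg n)
  · rw [map_mul]
    exact (mul_le_of_le_one_right'
      (val_aeval_le_one (by rw [ht, ← exp_zero, exp_le_exp]; norm_num) _)).trans (hf n)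

/-- An expansion with `t ↦ X` exists. -/
theorem exists_expansion (hP : IsDegOne P) (ht : P.1 t = exp (-1)) :
    ∃ ψ : K →ₐ[k] LaurentSeries k, LocRes.IsExpansionAt P.1 ψ ∧
      ψ t = HahnSeries.single 1 1 ∧
      ∀ z : K, P.1 z ≤ 1 → ∃ f : PowerSeries k, IsExp P t z f ∧ ψ z = (f : LaurentSeries k) := by
  choose f hf using fun z : P.O => exists_isExp hP ht (z := (z : K)) z.2
  have ht1 : P.1 t ≤ 1 := by rw [ht, ← exp_zero, exp_le_exp]; norm_num
  have hconst : ∀ c : k, IsExp P t (algebraMap k K c) (PowerSeries.C c) := fun c => by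
    simpa using isExp_aeval (P := P) (t := t) ht (Polynomial.C c)
  let ψ₀ : P.O →+* LaurentSeries k :=
    (HahnSeries.ofPowerSeries ℤ k).comp
    { toFun := f
      map_one' := (hf 1).unique ht (by simpa using hconst 1)
      map_mul' := fun a b => (hf (a * b)).unique ht ((hf a).mul ht a.2 (hf b))
      map_zero' := (hf 0).unique ht (by simpa using hconst 0)
      map_add' := fun a b => (hf (a + b)).unique ht ((hf a).add (hf b)) }
  have hinj : Function.Injective ψ₀ := by
    rw [injective_iff_map_eq_zero]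
    intro a ha
    have hfa : f a = 0 := HahnSeries.ofPowerSeries_injective (ha.trans (map_zero _).symm)
    by_contra ha0
    have ha0' : (a : K) ≠ 0 := fun h => ha0 (Subtype.ext h)
    have h1 := hf a ((P.ord (a : K)).toNat + 1)
    rw [hfa, map_zero, map_zero, sub_zero, val_eq_exp P ha0', exp_le_exp] at h1
    omega
  let ψ : K →+* LaurentSeries k := IsFractionRing.lift hinj
  have hψ : ∀ z : P.O, ψ (z : K) = (f z : LaurentSeries k) := fun z =>
    IsFractionRing.lift_algebraMap hinj z
  have hψc : ∀ c : k, ψ (algebraMap k K c) = HahnSeries.C c := fun c => by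
    have hmem : algebraMap k K c ∈ P.O := val_algebraMap_le P c
    have e := hψ ⟨_, hmem⟩
    rw [(hf ⟨_, hmem⟩).unique ht (hconst c), HahnSeries.ofPowerSeries_C] at e
    exact e
  have hψt : ψ t = HahnSeries.single 1 1 := by
    have e := hψ ⟨t, ht1⟩
    rw [(hf ⟨t, ht1⟩).unique ht (by simpa using isExp_aeval (P := P) (t := t) ht Polynomial.X),
      HahnSeries.ofPowerSeries_X] at e
    exact e
  have hval : ∀ z : K, Valued.v (ψ z) = P.1 z := by
    intro z
    rcases eq_or_ne z 0 with rfl | hz
    · rw [map_zero, map_zero, map_zero]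
    set m := P.ord z
    have ht0 : t ≠ 0 := by rintro rfl; exact exp_ne_zero ((map_zero P.1).symm.trans ht).symm
    have hu : P.1 (z * t ^ (-m)) = 1 := by
      rw [map_mul, map_zpow₀, ht, val_eq_exp P hz, ← exp_zsmul, ← exp_add, ← exp_zero]
      congr 1; simp [m]
    have hc : PowerSeries.constantCoeff (f ⟨_, hu.le⟩) ≠ 0 := by
      intro h0
      have h1 := hf ⟨z * t ^ (-m), hu.le⟩ 1
      rw [PowerSeries.trunc_succ, PowerSeries.coeff_zero_eq_constantCoeff_apply, h0] at h1
      have e0 : PowerSeries.trunc 0 (f ⟨z * t ^ (-m), hu.le⟩) = 0 := by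
        ext i; simp [PowerSeries.coeff_trunc]
      simp only [e0, Polynomial.monomial_zero_right, add_zero, map_zero,
        sub_zero, hu, Nat.cast_one] at h1
      exact absurd h1 (not_le.mpr ((exp_lt_exp.mpr (by norm_num)).trans_eq exp_zero))
    have h1 : Valued.v (ψ (z * t ^ (-m))) = 1 := by
      rw [hψ ⟨_, hu.le⟩]
      refine le_antisymm ?_ ?_
      · refine le_of_le_of_eq ((LaurentSeries.valuation_le_iff_coeff_lt_eq_zero k (D := 0)).mpr ?_)
          (by simp)
        intro n hn
        rw [PowerSeries.coeff_coe, if_pos hn]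
      · by_contra hlt
        have h2 : Valued.v (f ⟨_, hu.le⟩ : LaurentSeries k) ≤ exp (-1 : ℤ) := by
          rcases eq_or_ne (Valued.v (f ⟨_, hu.le⟩ : LaurentSeries k)) 0 with h | h
          · rw [h]; exact zero_le
          · obtain ⟨e, he⟩ : ∃ e : ℤ, Valued.v (f ⟨_, hu.le⟩ : LaurentSeries k) = exp e :=
              ⟨_, (exp_log h).symm⟩
            rw [he, ← exp_zero, exp_le_exp] at hlt
            rw [he, exp_le_exp]; omega
        have := LaurentSeries.coeff_zero_of_lt_valuation k h2 (show (0 : ℤ) < 1 by norm_num)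
        rw [PowerSeries.coeff_coe, if_neg (by norm_num)] at this
        exact hc (by simpa [PowerSeries.coeff_zero_eq_constantCoeff_apply] using this)
    have h2 : ψ z = ψ (z * t ^ (-m)) * ψ t ^ m := by
      rw [← map_zpow₀, ← map_mul, mul_assoc, ← zpow_add₀ ht0, neg_add_cancel, zpow_zero, mul_one]
    rw [h2, map_mul, h1, one_mul, map_zpow₀, hψt, LaurentSeries.valuation_single_zpow,
      val_eq_exp P hz, ← exp_zsmul]
    congr 1; simp [m]
  refine ⟨{ ψ with commutes' := fun c => ?_ }, ⟨hval, fun a => ⟨algebraMap k K a, val_algebraMap_le P a, ?_⟩,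
    t, ht⟩, hψt, fun z hz => ⟨_, hf ⟨z, hz⟩, hψ ⟨z, hz⟩⟩⟩
  · exact (hψc c).trans (LocRes.algebraMap_eq_C k c).symm
  · change (ψ (algebraMap k K a)).coeff 0 = a
    rw [hψc]; simp

end Groth.Agent.Lib.FunFld.Hasse.Expansion
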