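import Groth.Prelude.Def_W4bk4goldsch45p2
import Mathlib.LinearAlgebra.Dimension.Constructions
import Mathlib.LinearAlgebra.Matrix.NonsingularInverse
import Mathlib.LinearAlgebra.Matrix.Block
import Mathlib.Data.Finset.Sort
import Mathlib.Order.Interval.Set.Monotone

/-! Jump indices and order sequences of a sequence of vectors. -/

namespace Groth.Agent.Lib.FunFld.Hasse.Jumps

open Submodule

universe u v w
variable {R : Type u} {V : Type v} [Field R] [AddCommGroup V] [Module R V] {c c' : ℕ → V}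

/-- Span of the vectors before `j`. -/
abbrev sp (R : Type u) [Field R] [Module R V] (c : ℕ → V) (j : ℕ) : Submodule R V :=
  span R (c '' Set.Iio j)

theorem sp_succ (j : ℕ) : sp R c (j + 1) = sp R c j ⊔ span R {c j} := by
  rw [sp, show Set.Iio (j + 1) = Set.Iio j ∪ {j} by
    ext x; simp only [Set.mem_Iio, Set.mem_union, Set.mem_singleton_iff]; omega, Set.image_union,
    Set.image_singleton, span_union]

theorem sp_mono {i j : ℕ} (h : i ≤ j) : sp R c i ≤ sp R c j :=
  span_mono (Set.image_mono (Set.Iio_subset_Iio h))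

theorem mem_sp {i j : ℕ} (h : i < j) : c i ∈ sp R c j := subset_span ⟨i, h, rfl⟩

theorem sp_eq_jumps (j : ℕ) :
    sp R c j = span R (c '' {m | m < j ∧ FunFld.IsJump R c m}) := by
  induction j with
  | zero => simp [sp]
  | succ j ih =>
    refine le_antisymm ?_ (span_mono (Set.image_mono fun m hm => hm.1))
    rw [sp_succ, sup_le_iff]
    refine ⟨ih.trans_le (span_mono (Set.image_mono fun m (hm : m < j ∧ _) => ⟨by omega, hm.2⟩)), ?_⟩
    rw [span_singleton_le_iff_mem]
    by_cases h : FunFld.IsJump R c j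
    · exact subset_span ⟨j, ⟨by omega, h⟩, rfl⟩
    · have h' : c j ∈ sp R c j := not_not.mp h
      have hsub : {m | m < j ∧ FunFld.IsJump R c m} ⊆ {m | m < j + 1 ∧ FunFld.IsJump R c m} :=
        fun m hm => ⟨Nat.lt_succ_of_lt hm.1, hm.2⟩
      rw [ih] at h'
      exact span_mono (Set.image_mono hsub) h'

theorem linearIndepOn_jumps_lt (j : ℕ) :
    LinearIndepOn R c {m | m < j ∧ FunFld.IsJump R c m} := by
  induction j with
  | zero => simp [linearIndepOn_empty]
  | succ j ih =>
    by_cases h : FunFld.IsJump R c j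
    · have he : {m | m < j + 1 ∧ FunFld.IsJump R c m} =
          insert j {m | m < j ∧ FunFld.IsJump R c m} := by
        ext m; simp only [Set.mem_ofPred_eq, Set.mem_insert_iff]
        refine ⟨fun hm => ?_, ?_⟩
        · rcases Nat.lt_succ_iff_lt_or_eq.mp hm.1 with h1 | h1
          exacts [Or.inr ⟨h1, hm.2⟩, Or.inl h1]
        · rintro (rfl | hm)
          exacts [⟨by omega, h⟩, ⟨by omega, hm.2⟩]
      rw [he]
      exact ih.insert fun hm => h (by rwa [← sp_eq_jumps] at hm)
    · convert! ih using 2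
      ext m
      exact ⟨fun hm => ⟨lt_of_le_of_ne (by have := hm.1; omega) (fun e => h (e ▸ hm.2)), hm.2⟩,
        fun hm => ⟨by omega, hm.2⟩⟩

theorem isJump_congr (h : ∀ j, sp R c' j = sp R c j) (j : ℕ) :
    FunFld.IsJump R c' j ↔ FunFld.IsJump R c j := by
  have key : ∀ d : ℕ → V, ¬ FunFld.IsJump R d j ↔ sp R d (j + 1) = sp R d j := fun d => by
    change ¬¬ d j ∈ sp R d j ↔ _
    rw [not_not, sp_succ, sup_eq_left, span_singleton_le_iff_mem]
  rw [← not_iff_not, key, key, h, h]

/-- Triangular changes of a sequence do not change the spans. -/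
theorem sp_eq_of_triangular {a : ℕ → R} (ha : ∀ j, a j ≠ 0)
    (h : ∀ j, c' j - a j • c j ∈ sp R c j) (j : ℕ) : sp R c' j = sp R c j := by
  induction j with
  | zero => simp [sp]
  | succ j ih =>
    rw [sp_succ, sp_succ, ih]
    refine le_antisymm (sup_le le_sup_left ?_) (sup_le le_sup_left ?_) <;>
      rw [span_singleton_le_iff_mem]
    · rw [← sub_add_cancel (c' j) (a j • c j)]
      exact add_mem (mem_sup_left (h j)) (mem_sup_right (smul_mem _ _ (mem_span_singleton_self _)))
    · rw [← inv_smul_smul₀ (ha j) (c j), ← sub_sub_cancel (c' j) (a j • c j)]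
      exact smul_mem _ _ (sub_mem (mem_sup_right (mem_span_singleton_self _)) (mem_sup_left (h j)))

theorem isOrders_congr {n : ℕ} (h : ∀ j, FunFld.IsJump R c' j ↔ FunFld.IsJump R c j)
    (J : Fin n → ℕ) : FunFld.IsOrders R c' J ↔ FunFld.IsOrders R c J := by
  simp only [FunFld.IsOrders, h]

theorem isJump_zero : FunFld.IsJump R c 0 ↔ c 0 ≠ 0 := by simp [FunFld.IsJump]

/-- The selected vectors. -/
def sel (c : ℕ → V) {n : ℕ} (J : Fin n → ℕ) : Fin (n + 1) → V :=
  Fin.cons (c 0) fun l => c (J l + 1)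

/-- Index of the selected vectors. -/
def idx {n : ℕ} (J : Fin n → ℕ) : Fin (n + 1) → ℕ := Fin.cons 0 fun l => J l + 1

omit [AddCommGroup V] in
theorem sel_eq {n : ℕ} (J : Fin n → ℕ) : sel c J = c ∘ idx J := by
  ext i
  cases i using Fin.cases <;> simp [sel, idx]

theorem idx_strictMono {n : ℕ} {J : Fin n → ℕ} (hJ : StrictMono J) : StrictMono (idx J) := by
  intro a b hab
  cases a using Fin.cases with
  | zero =>
    cases b using Fin.cases with
    | zero => exact absurd hab (lt_irrefl _)
    | succ b => simp [idx]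
  | succ a =>
    cases b using Fin.cases with
    | zero => exact absurd hab (Fin.not_lt_zero _)
    | succ b => simpa [idx] using hJ (Fin.succ_lt_succ_iff.mp hab)

theorem isJump_iff_mem_range {n : ℕ} {J : Fin n → ℕ} (h0 : c 0 ≠ 0) (hJ : FunFld.IsOrders R c J)
    (j : ℕ) : FunFld.IsJump R c j ↔ j ∈ Set.range (idx J) := by
  cases j with
  | zero => exact iff_of_true (isJump_zero.mpr h0) ⟨0, rfl⟩
  | succ j =>
    rw [← hJ.2]
    constructor
    · rintro ⟨l, rfl⟩; exact ⟨l.succ, by simp [idx]⟩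
    · rintro ⟨i, hi⟩
      cases i using Fin.cases with
      | zero => simp [idx] at hi
      | succ l => exact ⟨l, by simpa [idx] using hi⟩

theorem linearIndependent_sel {n : ℕ} {J : Fin n → ℕ} (h0 : c 0 ≠ 0)
    (hJ : FunFld.IsOrders R c J) : LinearIndependent R (sel c J) := by
  rw [sel_eq]
  have hinj := (idx_strictMono hJ.1).injective
  have hN := linearIndepOn_jumps_lt (R := R) (c := c) (Finset.univ.sup (idx J) + 1)
  exact (linearIndepOn_range_iff hinj c).mp (hN.mono fun j hj => by
    refine ⟨?_, (isJump_iff_mem_range h0 hJ j).mpr hj⟩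
    obtain ⟨i, rfl⟩ := hj
    exact Nat.lt_succ_of_le (Finset.le_sup (Finset.mem_univ i)))

theorem sp_le_span_sel {n : ℕ} {J : Fin n → ℕ} (h0 : c 0 ≠ 0) (hJ : FunFld.IsOrders R c J)
    (r : Fin (n + 1)) : sp R c (idx J r) ≤ span R (sel c J '' Set.Iio r) := by
  rw [sp_eq_jumps]
  refine span_mono ?_
  rintro _ ⟨m, ⟨hm, hmj⟩, rfl⟩
  obtain ⟨i, rfl⟩ := (isJump_iff_mem_range h0 hJ m).mp hmj
  exact ⟨i, (idx_strictMono hJ.1).lt_iff_lt.mp hm, by rw [sel_eq]; rfl⟩

/-- Existence of the order sequence. -/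
theorem exists_orders [FiniteDimensional R V] {n : ℕ} (hV : Module.finrank R V = n + 1)
    (h0 : c 0 ≠ 0) (htop : span R (Set.range c) = ⊤) :
    ∃ J : Fin n → ℕ, FunFld.IsOrders R c J := by
  set T := {m | FunFld.IsJump R c m}
  have hli : LinearIndepOn R c T := by
    refine linearIndepOn_of_finite T fun t htT htf => ?_
    obtain ⟨N, hN⟩ := htf.bddAbove
    exact (linearIndepOn_jumps_lt (N + 1)).mono fun m hm => ⟨Nat.lt_succ_of_le (hN hm), htT hm⟩
  have hspan : span R (c '' T) = ⊤ := by
    refine eq_top_iff.mpr (htop ▸ span_le.mpr ?_)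
    rintro _ ⟨m, rfl⟩
    have := (sp_eq_jumps (m + 1)).le (mem_sp (R := R) (c := c) (Nat.lt_succ_self m))
    exact span_mono (Set.image_mono fun x hx => hx.2) this
  let b : Module.Basis T R V := .mk hli (by
    rw [show (Set.range fun x : T => c x) = c '' T by ext; simp, hspan])
  have : Fintype T := FiniteDimensional.fintypeBasisIndex b
  have hcard : Fintype.card T = n + 1 := hV ▸ (Module.finrank_eq_card_basis b).symm
  let S : Finset ℕ := (T.toFinset.erase 0).image fun m => m - 1
  have hS : S.card = n := by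
    rw [Finset.card_image_of_injOn, Finset.card_erase_of_mem, Set.toFinset_card, hcard]
    · simp
    · exact Set.mem_toFinset.mpr (isJump_zero.mpr h0)
    · intro a ha b hb hab
      simp only [Finset.coe_erase, Set.mem_sdiff, Set.mem_singleton_iff] at ha hb
      have := ha.2; have := hb.2
      simp only at hab
      omega
  refine ⟨S.orderEmbOfFin hS, (S.orderEmbOfFin hS).strictMono, fun j => ?_⟩
  rw [Finset.range_orderEmbOfFin, Finset.mem_coe]
  simp only [S, Finset.mem_image, Finset.mem_erase, Set.mem_toFinset]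
  constructor
  · rintro ⟨m, ⟨hm0, hm⟩, rfl⟩
    rwa [show m - 1 + 1 = m by omega]
  · exact fun h => ⟨j + 1, ⟨Nat.succ_ne_zero j, h⟩, rfl⟩

theorem orders_le {n : ℕ} {J J' : Fin n → ℕ} (h0 : c 0 ≠ 0) (hJ : FunFld.IsOrders R c J)
    (hJ' : StrictMono J') (hli : LinearIndependent R (sel c J')) (l : Fin n) : J l ≤ J' l := by
  by_contra hlt
  rw [not_le] at hlt
  rw [sel_eq] at hli
  let f : Fin (l.val + 2) → Fin (n + 1) := fun i => ⟨i.val, by have := i.2; have := l.2; omega⟩
  let g : Fin (l.val + 1) → Fin (n + 1) := fun i => ⟨i.val, by have := i.2; have := l.2; omega⟩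
  have hsub : Set.range ((c ∘ idx J') ∘ f) ⊆ (span R (Set.range ((c ∘ idx J) ∘ g)) : Set V) := by
    rintro _ ⟨i, rfl⟩
    have hle : idx J' (f i) ≤ J' l + 1 := by
      rw [show J' l + 1 = idx J' l.succ by simp [idx]]
      exact (idx_strictMono hJ').monotone (Fin.le_def.mpr (by simp [f]; omega))
    have h1 : c (idx J' (f i)) ∈ sp R c (idx J l.succ) :=
      mem_sp (hle.trans_lt (by simp [idx]; omega))
    refine span_mono ?_ ((sp_le_span_sel h0 hJ l.succ) h1)
    rintro _ ⟨r, hr, rfl⟩
    exact ⟨⟨r.val, by simpa [Fin.lt_def] using hr⟩, by rw [sel_eq]; rfl⟩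
  have hfinj : Function.Injective f := fun a b h => Fin.ext (congrArg Fin.val h :)
  have h2 := (hli.comp f hfinj).linearIndepOn_id
  have : Fintype (Set.range ((c ∘ idx J) ∘ g)) := Fintype.ofFinite _
  have hle := linearIndependent_le_span_aux' ((c ∘ idx J') ∘ f) (hli.comp f hfinj)
    (Set.range ((c ∘ idx J) ∘ g)) hsub
  have := hle.trans (Fintype.card_le_of_surjective (Set.rangeFactorization ((c ∘ idx J) ∘ g))
    Set.rangeFactorization_surjective)
  simp at this

variable {N : ℕ}

/-- Determinant of a triangular change of rows. -/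
theorem det_of_triangular (v w : Fin N → Fin N → R) (a : Fin N → R)
    (h : ∀ r, w r - a r • v r ∈ span R (v '' Set.Iio r)) :
    (Matrix.of w).det = (∏ r, a r) * (Matrix.of v).det := by
  have hr : ∀ r, ∃ u : Fin N → R, (∀ s, r < s → u s = 0) ∧ u r = a r ∧ w r = ∑ s, u s • v s := by
    intro r
    obtain ⟨l, hl, hlv⟩ := (Finsupp.mem_span_image_iff_linearCombination R).mp (h r)
    have hl0 : ∀ s, ¬ s < r → l s = 0 := fun s hs => by
      by_contra h0
      exact hs (hl (Finsupp.mem_support_iff.mpr h0))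
    refine ⟨fun s => l s + if s = r then a r else 0, fun s hs => ?_, ?_, ?_⟩
    · simp [hl0 s (not_lt.mpr hs.le), hs.ne']
    · simp [hl0 r (lt_irrefl r)]
    · rw [Finsupp.linearCombination_apply, Finsupp.sum_fintype _ _ (fun i => zero_smul R (v i)),
        eq_sub_iff_add_eq] at hlv
      simp only [add_smul, Finset.sum_add_distrib, ite_smul, zero_smul, Finset.sum_ite_eq',
        Finset.mem_univ, if_true]
      exact hlv.symm
  choose u hu0 hua huw using hr
  have hmul : Matrix.of w = Matrix.of u * Matrix.of v := by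
    ext r j
    simp [Matrix.mul_apply, huw r]
  rw [hmul, Matrix.det_mul, Matrix.det_of_isLowerTriangular (Matrix.of u)
    (fun i j (hij : OrderDual.toDual j < OrderDual.toDual i) => hu0 i j hij)]
  simp [hua]

variable {n : ℕ} {d d' : ℕ → Fin (n + 1) → R}

theorem det_ne_zero_iff (J : Fin n → ℕ) :
    (Matrix.of (sel d J)).det ≠ 0 ↔ LinearIndependent R (sel d J) := by
  rw [← isUnit_iff_ne_zero, ← Matrix.isUnit_iff_isUnit_det,
    ← Matrix.linearIndependent_rows_iff_isUnit]
  rfl

theorem det_sel_of_triangular {a : ℕ → R} {J : Fin n → ℕ} (h0 : d 0 ≠ 0)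
    (hJ : FunFld.IsOrders R d J) (h : ∀ j, d' j - a j • d j ∈ sp R d j) :
    (Matrix.of (sel d' J)).det = (a 0 * ∏ l, a (J l + 1)) * (Matrix.of (sel d J)).det := by
  have h1 := det_of_triangular (sel d J) (sel d' J) (a ∘ idx J) fun r =>
    sp_le_span_sel h0 hJ r (by simpa [sel_eq] using h (idx J r))
  rw [h1, Fin.prod_univ_succ]
  simp [idx]

theorem wrMat_det {k K : Type*} [Field k] [Field K] [Algebra k K] (τ : K →ₐ[k] K)
    (H : K →ₐ[k] PowerSeries K) (φ : Fin (n + 1) → K) (J : Fin n → ℕ) :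
    (FunFld.wrMat τ H φ J).det = (Matrix.of (sel (FunFld.hcol τ H φ) J)).det := by
  rw [← Matrix.det_transpose]
  congr 1
  ext i j
  cases i using Fin.cases <;> simp [FunFld.wrMat, sel, FunFld.hcol]

end Groth.Agent.Lib.FunFld.Hasse.Jumps
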