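import Groth.Agent.Lib.FunFld.Hasse.Family
import Groth.Agent.Lib.FunFld.Hasse.Jumps
import Groth.Agent.Lib.FunFld.Hasse.Formula
import Groth.Agent.Lib.FunFld.Hasse.Expansion
import Groth.Agent.Lib.FunFld.Rational
import Mathlib.RingTheory.PowerSeries.Substitution

/-! Change of parameter of Hasse derivatives and the columns of `hcol`. -/

namespace Groth.Agent.Lib.FunFld.Hasse.Param

open Submodule WithZero
open Groth.Agent.Lib.FunFld.Hasse

universe u v
variable {k : Type u} {K : Type v} [Field k] [Field K] [Algebra k K]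

/-- The first Hasse derivative as a derivation. -/
noncomputable def d1 {s : K} (H : K →ₐ[k] PowerSeries K) (hH : LocRes.IsHasseFamily s H) :
    Derivation k K K :=
  Derivation.mk' ((PowerSeries.coeff 1).restrictScalars k ∘ₗ H.toLinearMap) fun a b => by
    change PowerSeries.coeff 1 (H (a * b)) = a * PowerSeries.coeff 1 (H b) + b * PowerSeries.coeff 1 (H a)
    rw [map_mul, PowerSeries.coeff_one_mul, hH.2, hH.2]
    ring

theorem d1_apply {s : K} (H : K →ₐ[k] PowerSeries K) (hH : LocRes.IsHasseFamily s H) (z : K) :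
    d1 H hH z = LocRes.hasseD H 1 z := rfl

theorem d1_self {s : K} (H : K →ₐ[k] PowerSeries K) (hH : LocRes.IsHasseFamily s H) :
    d1 H hH s = 1 := by
  rw [d1_apply, LocRes.hasseD_apply, hH.1]
  simp

theorem hasseD_zero {s : K} {H : K →ₐ[k] PowerSeries K} (hH : LocRes.IsHasseFamily s H) (z : K) :
    LocRes.hasseD H 0 z = z := by
  rw [LocRes.hasseD_apply, PowerSeries.coeff_zero_eq_constantCoeff_apply, hH.2]

theorem isSep_of_family [PerfectField k] (hK : FunFld.IsFunctionField k K) {s : K}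
    {H : K →ₐ[k] PowerSeries K} (hH : LocRes.IsHasseFamily s H) : Separable.IsSep k s :=
  Separable.isSep_of_derivation hK (d1 H hH) (by rw [d1_self]; exact one_ne_zero)

theorem d1_ne_zero [PerfectField k] (hK : FunFld.IsFunctionField k K) {s t : K}
    {Hs Ht : K →ₐ[k] PowerSeries K} (hs : LocRes.IsHasseFamily s Hs)
    (ht : LocRes.IsHasseFamily t Ht) : LocRes.hasseD Ht 1 s ≠ 0 := fun h => by
  have := Separable.derivation_eq_zero (isSep_of_family hK hs) (d1 Ht ht) ((d1_apply Ht ht s).trans h)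
  have h1 := d1_self Ht ht
  rw [this] at h1
  exact zero_ne_one h1

/-- The shift `Ht s - s`. -/
noncomputable def shift (Ht : K →ₐ[k] PowerSeries K) (s : K) : PowerSeries K :=
  Ht s - PowerSeries.C s

theorem constantCoeff_shift {t : K} {Ht : K →ₐ[k] PowerSeries K}
    (ht : LocRes.IsHasseFamily t Ht) (s : K) : PowerSeries.constantCoeff (shift Ht s) = 0 := by
  rw [shift, map_sub, ht.2, PowerSeries.constantCoeff_C, sub_self]

theorem coeff_shift_pow {t : K} {Ht : K →ₐ[k] PowerSeries K}
    (ht : LocRes.IsHasseFamily t Ht) (s : K) (j m : ℕ) :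
    (j < m → PowerSeries.coeff j (shift Ht s ^ m) = 0) ∧
      PowerSeries.coeff j (shift Ht s ^ j) = LocRes.hasseD Ht 1 s ^ j := by
  obtain ⟨g, hg⟩ := PowerSeries.X_dvd_iff.mpr (constantCoeff_shift ht s)
  refine ⟨fun h => ?_, ?_⟩
  · rw [hg, mul_pow, PowerSeries.coeff_X_pow_mul', if_neg (not_le.mpr h)]
  · have h1 : PowerSeries.constantCoeff g = LocRes.hasseD Ht 1 s := by
      have h2 := congrArg (PowerSeries.coeff 1) hg
      rw [shift, map_sub, PowerSeries.coeff_C, if_neg one_ne_zero, sub_zero,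
        PowerSeries.coeff_succ_X_mul, PowerSeries.coeff_zero_eq_constantCoeff_apply] at h2
      exact h2.symm
    rw [hg, mul_pow, PowerSeries.coeff_X_pow_mul', if_pos le_rfl, Nat.sub_self,
      PowerSeries.coeff_zero_eq_constantCoeff_apply, map_pow, h1]

/-- Change of parameter. -/
theorem change [PerfectField k] (hK : FunFld.IsFunctionField k K) {s t : K}
    {Hs Ht : K →ₐ[k] PowerSeries K} (hs : LocRes.IsHasseFamily s Hs)
    (ht : LocRes.IsHasseFamily t Ht) (j : ℕ) (z : K) :
    LocRes.hasseD Ht j z =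
      ∑ m ∈ Finset.range (j + 1), LocRes.hasseD Hs m z * PowerSeries.coeff j (shift Ht s ^ m) := by
  have hd : PowerSeries.HasSubst (shift Ht s) :=
    PowerSeries.HasSubst.of_constantCoeff_zero' (constantCoeff_shift ht s)
  let σ : PowerSeries K →ₐ[K] PowerSeries K := PowerSeries.substAlgHom hd
  have hσ : ∀ f, σ f = PowerSeries.subst (shift Ht s) f := fun f => by
    rw [← PowerSeries.coe_substAlgHom hd]
  have hcoeff : ∀ (f : PowerSeries K) (i : ℕ), PowerSeries.coeff i (σ f) =
      ∑ m ∈ Finset.range (i + 1), PowerSeries.coeff m f * PowerSeries.coeff i (shift Ht s ^ m) := by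
    intro f i
    rw [hσ, PowerSeries.coeff_subst' hd, finsum_eq_sum_of_support_subset _ (s := Finset.range (i + 1))]
    · simp [smul_eq_mul]
    · intro m hm
      simp only [Finset.coe_range, Set.mem_Iio, Function.mem_support, smul_eq_mul] at hm ⊢
      by_contra hlt
      exact hm (by rw [(coeff_shift_pow ht s i m).1 (by omega), mul_zero])
  have hC : ∀ a : K, σ (PowerSeries.C a) = PowerSeries.C a := fun a => by
    have := σ.commutes a
    rwa [PowerSeries.algebraMap_eq] at this
  have hX : σ PowerSeries.X = shift Ht s := PowerSeries.substAlgHom_X hd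
  have key : Ht.toRingHom = σ.toRingHom.comp Hs.toRingHom := by
    refine Family.hom_unique (isSep_of_family hK hs) _ _ (fun c => ?_) ?_ fun y => ?_
    · change Ht (algebraMap k K c) = σ (Hs (algebraMap k K c))
      rw [Ht.commutes, Hs.commutes, PowerSeries.algebraMap_apply, hC]
    · change Ht s = σ (Hs s)
      rw [hs.1, map_add, hC, hX, shift, add_sub_cancel]
    · change PowerSeries.constantCoeff (Ht y) = PowerSeries.constantCoeff (σ (Hs y))
      rw [ht.2, ← PowerSeries.coeff_zero_eq_constantCoeff_apply, hcoeff]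
      simp [hs.2]
  rw [LocRes.hasseD_apply, show Ht z = σ (Hs z) from RingHom.congr_fun key z, hcoeff]
  rfl

variable {n : ℕ} (τ : K →ₐ[k] K) (φ : Fin (n + 1) → K)

/-- The multipliers for a change of parameter. -/
noncomputable def mult (a : K) : ℕ → K
  | 0 => 1
  | j + 1 => a ^ j

theorem hcol_change [PerfectField k] (hK : FunFld.IsFunctionField k K) {s t : K}
    {Hs Ht : K →ₐ[k] PowerSeries K} (hs : LocRes.IsHasseFamily s Hs)
    (ht : LocRes.IsHasseFamily t Ht) (j : ℕ) :
    FunFld.hcol τ Ht φ j - mult (LocRes.hasseD Ht 1 s) j • FunFld.hcol τ Hs φ j ∈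
      Jumps.sp K (FunFld.hcol τ Hs φ) j := by
  cases j with
  | zero => simp [FunFld.hcol, mult]
  | succ j =>
    have : FunFld.hcol τ Ht φ (j + 1) - mult (LocRes.hasseD Ht 1 s) (j + 1) •
        FunFld.hcol τ Hs φ (j + 1) =
      ∑ m ∈ Finset.range j, PowerSeries.coeff j (shift Ht s ^ m) •
        FunFld.hcol τ Hs φ (m + 1) := by
      funext i
      simp only [FunFld.hcol, mult, Pi.sub_apply, Pi.smul_apply, smul_eq_mul, Finset.sum_apply]
      rw [change hK hs ht, Finset.sum_range_succ, (coeff_shift_pow ht s j j).2,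
        mul_comm (LocRes.hasseD Hs j (φ i)), add_sub_cancel_right]
      exact Finset.sum_congr rfl fun m _ => mul_comm _ _
    rw [this]
    exact sum_mem fun m hm => smul_mem _ _
      (Jumps.mem_sp (Nat.succ_lt_succ (Finset.mem_range.mp hm)))

/-- The multipliers for a change of representative. -/
def mult' (y' y : K) : ℕ → K
  | 0 => y'
  | _ + 1 => y

theorem hcol_smul {s : K} {H : K →ₐ[k] PowerSeries K} (hH : LocRes.IsHasseFamily s H) (y : K)
    (j : ℕ) : FunFld.hcol τ H (y • φ) j - mult' (τ y) y j • FunFld.hcol τ H φ j ∈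
      Jumps.sp K (FunFld.hcol τ H φ) j := by
  cases j with
  | zero =>
    have : FunFld.hcol τ H (y • φ) 0 = τ y • FunFld.hcol τ H φ 0 := by
      funext i; simp [FunFld.hcol]
    simp [this, mult']
  | succ j =>
    have : FunFld.hcol τ H (y • φ) (j + 1) - mult' (τ y) y (j + 1) • FunFld.hcol τ H φ (j + 1) =
      ∑ m ∈ Finset.range j, LocRes.hasseD H (j - m) y • FunFld.hcol τ H φ (m + 1) := by
      funext i
      simp only [FunFld.hcol, mult', Pi.sub_apply, Pi.smul_apply, smul_eq_mul, Finset.sum_apply,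
        LocRes.hasseD_apply, map_mul, PowerSeries.coeff_mul,
        Finset.Nat.sum_antidiagonal_eq_sum_range_succ fun a b =>
          PowerSeries.coeff a (H y) * PowerSeries.coeff b (H (φ i))]
      rw [← Finset.sum_range_reflect, Finset.sum_range_succ]
      simp only [Nat.succ_eq_add_one, Nat.add_sub_cancel, Nat.sub_self, Nat.sub_zero]
      rw [PowerSeries.coeff_zero_eq_constantCoeff_apply, hH.2, add_sub_cancel_right]
      refine Finset.sum_congr rfl fun m hm => ?_
      rw [Nat.sub_sub_self (Finset.mem_range.mp hm).le]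
    rw [this]
    exact sum_mem fun m hm => smul_mem _ _
      (Jumps.mem_sp (Nat.succ_lt_succ (Finset.mem_range.mp hm)))

theorem mult'_ne_zero {y' y : K} (hy' : y' ≠ 0) (hy : y ≠ 0) : ∀ j, mult' y' y j ≠ 0
  | 0 => hy'
  | _ + 1 => hy

theorem mult_ne_zero {a : K} (ha : a ≠ 0) : ∀ j, mult a j ≠ 0
  | 0 => one_ne_zero
  | _ + 1 => pow_ne_zero _ ha

theorem hcol_zero_ne_zero (hφ : ∃ i, φ i ≠ 0) (H : K →ₐ[k] PowerSeries K) :
    FunFld.hcol τ H φ 0 ≠ 0 := fun h => by
  obtain ⟨i, hi⟩ := hφ
  exact hi ((map_eq_zero τ).mp (congrFun h i))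

theorem res_bijective [IsAlgClosed k] (hK : FunFld.IsFunctionField k K)
    (P : _root_.FunFld.Place k K) :
    Function.Bijective (algebraMap k (IsLocalRing.ResidueField P.O)) := by
  have := Existence.finiteDimensional_residueField hK P
  have : Algebra.IsIntegral k (IsLocalRing.ResidueField P.O) :=
    @Algebra.IsIntegral.of_finite k (IsLocalRing.ResidueField P.O) _ _ _ this
  exact IsAlgClosed.algebraMap_bijective_of_isIntegral

theorem isDegOne [IsAlgClosed k] (hK : FunFld.IsFunctionField k K)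
    (P : _root_.FunFld.Place k K) : Expansion.IsDegOne P := by
  intro z hz
  obtain ⟨c, hc⟩ := (res_bijective hK P).2 (IsLocalRing.residue P.O ⟨z, hz⟩)
  refine ⟨c, (Place.res_eq_zero_iff P (⟨z, hz⟩ - algebraMap k P.O c)).mp ?_⟩
  rw [map_sub, ← Place.algebraMap_residue, hc, sub_self]

theorem coeff_zero_eq {P : _root_.FunFld.Place k K} {F : Type*} [Field F] [Algebra k F]
    {ψ : K →ₐ[k] LaurentSeries F} (hψ : LocRes.IsExpansionAt P.1 ψ) {z : K} {c : k}
    (hc : P.1 (z - algebraMap k K c) < 1) : (ψ z).coeff 0 = algebraMap k F c := by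
  have h1 : Valued.v (ψ (z - algebraMap k K c)) ≤ exp (-((1 : ℤ))) := by
    rw [hψ.1]
    exact (Place.val_le_exp_iff P).mpr (((Place.val_lt_one_iff P).mp hc).imp id (fun h => by omega))
  have h2 := (LaurentSeries.valuation_le_iff_coeff_lt_eq_zero F).mp h1 0 (by norm_num)
  rw [map_sub, LocRes.map_algebraMap, HahnSeries.coeff_sub, sub_eq_zero] at h2
  rw [h2]
  simp

theorem evalP_eq {P : _root_.FunFld.Place k K} {z : K} (hz : P.1 z ≤ 1) {c : k}
    (hc : P.1 (z - algebraMap k K c) < 1) :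
    FunFld.evalP P z = algebraMap k (IsLocalRing.ResidueField P.O) c := by
  rw [FunFld.evalP, dif_pos hz, Place.algebraMap_residue, ← sub_eq_zero, ← map_sub,
    Place.res_eq_zero_iff]
  exact hc

/-- The values of the Hasse derivatives at a place are the coefficients of the expansion. -/
theorem evalP_hasseD [IsAlgClosed k] (hK : FunFld.IsFunctionField k K)
    {P : _root_.FunFld.Place k K} {t : K} {ψ : K →ₐ[k] LaurentSeries k}
    (hψ : LocRes.IsExpansionAt P.1 ψ) (ht : ψ t = HahnSeries.single 1 1)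
    {H : K →ₐ[k] PowerSeries K} (hH : LocRes.IsHasseFamily t H) {z : K} (hz : P.1 z ≤ 1) (j : ℕ) :
    FunFld.evalP P (LocRes.hasseD H j z) =
      algebraMap k (IsLocalRing.ResidueField P.O) ((ψ z).coeff j) := by
  have hsep := isSep_of_family hK hH
  have hv := Formula.val_hasseD_le hψ ht hsep hH hz j
  obtain ⟨c, hc⟩ := isDegOne hK P _ hv
  rw [evalP_eq hv hc, ← Formula.coeff_zero_hasseD hψ ht hsep hH hz j, coeff_zero_eq hψ hc,
    Algebra.algebraMap_self, RingHom.id_apply]

theorem exists_expansion [IsAlgClosed k] (hK : FunFld.IsFunctionField k K)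
    {P : _root_.FunFld.Place k K} {t : K} (ht : P.1 t = exp (-1)) :
    ∃ ψ : K →ₐ[k] LaurentSeries k, LocRes.IsExpansionAt P.1 ψ ∧ ψ t = HahnSeries.single 1 1 := by
  obtain ⟨ψ, h1, h2, -⟩ := Expansion.exists_expansion (isDegOne hK P) ht
  exact ⟨ψ, h1, h2⟩

theorem linearIndependent_values [IsAlgClosed k] (hK : FunFld.IsFunctionField k K) {ι : Type*}
    [Fintype ι] (P : _root_.FunFld.Place k K) {f : ι → K} (hf : LinearIndependent k f)
    (hint : ∀ i, P.1 (f i) ≤ 1) {t : K} (ht : P.1 t = exp (-1)) {H : K →ₐ[k] PowerSeries K}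
    (hH : LocRes.IsHasseFamily t H) :
    LinearIndependent (IsLocalRing.ResidueField P.O)
      (fun i : ι => fun j : ℕ => FunFld.evalP P (LocRes.hasseD H j (f i))) := by
  obtain ⟨ψ, hψ, hψt⟩ := exists_expansion hK ht
  rw [Fintype.linearIndependent_iff]
  intro g hg
  choose a ha using fun i => (res_bijective hK P).2 (g i)
  have hz : ∑ i, a i • f i = 0 := by
    refine (map_eq_zero ψ).mp (HahnSeries.ext (funext fun m => ?_))
    rw [map_sum, HahnSeries.coeff_sum, HahnSeries.coeff_zero]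
    simp only [Algebra.smul_def, map_mul, LocRes.map_algebraMap, Algebra.algebraMap_self,
      RingHom.id_apply, HahnSeries.C_mul_eq_smul, HahnSeries.coeff_smul]
    rcases lt_or_ge m 0 with hm | hm
    · refine Finset.sum_eq_zero fun i _ => ?_
      obtain ⟨p, hp⟩ := Formula.exists_powerSeries hψ (hint i)
      rw [← hp, PowerSeries.coeff_coe, if_pos hm, mul_zero]
    · lift m to ℕ using hm
      apply (algebraMap k (IsLocalRing.ResidueField P.O)).injective
      have := congrFun hg m
      simp only [Finset.sum_apply, Pi.smul_apply, smul_eq_mul, Pi.zero_apply,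
        evalP_hasseD hK hψ hψt hH (hint _)] at this
      simp only [map_sum, map_mul, map_zero, ha, this]
  intro i
  rw [← ha i, Fintype.linearIndependent_iff.mp hf a hz i, map_zero]

/-- The Hasse columns span. -/
theorem span_hasse_top [IsAlgClosed k] (hK : FunFld.IsFunctionField k K)
    (hφ : LinearIndependent k φ) {s : K} {H : K →ₐ[k] PowerSeries K}
    (hH : LocRes.IsHasseFamily s H) : span K (Set.range (FunFld.hcol τ H φ)) = ⊤ := by
  obtain ⟨P⟩ := Riemann.nonempty_place hK
  obtain ⟨i₀, -, hmax⟩ := Finset.exists_max_image Finset.univ (fun i => P.1 (φ i)) Finset.univ_nonempty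
  have hy : (φ i₀)⁻¹ ≠ 0 := inv_ne_zero (hφ.ne_zero i₀)
  have hint : ∀ i, P.1 (((φ i₀)⁻¹ • φ) i) ≤ 1 := fun i => by
    rw [Pi.smul_apply, smul_eq_mul, map_mul, map_inv₀]
    exact inv_mul_le_one_of_le₀ (hmax i (Finset.mem_univ i)) zero_le
  have hli : LinearIndependent k ((φ i₀)⁻¹ • φ) :=
    hφ.map' (LinearMap.mulLeft k (φ i₀)⁻¹) (LinearMap.ker_eq_bot.mpr (mul_right_injective₀ hy))
  obtain ⟨t, -, ht⟩ := Place.exists_uniformizer P
  obtain ⟨ψ, hψ, hψt⟩ := exists_expansion hK ht
  have hsep : Separable.IsSep k t := Separable.isSep_of_D_ne_zero hK (Separable.exists_isSep hK)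
    fun h0 => by
      have h1 := LocRes.resOmega_smul_D ψ t⁻¹ t
      rw [h0, smul_zero, map_zero, LocRes.resExp, map_inv₀, hψt, HahnSeries.inv_single, inv_one,
        LocRes.D_apply, LocRes.res_apply, HahnSeries.coeff_single_mul, one_mul,
        LocRes.derivative_coeff] at h1
      simp at h1
  have htr : Transcendental k t := Existence.transcendental_of_ord_ne_zero hK P (by
    rw [Place.ord_eq_of_val_eq_exp P ht]; norm_num)
  obtain ⟨Ht, hHt⟩ := Family.exists_hasse hK htr hsep
  have heq : ∀ j, Jumps.sp K (FunFld.hcol τ Ht ((φ i₀)⁻¹ • φ)) j =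
      Jumps.sp K (FunFld.hcol τ H φ) j := fun j =>
    (Jumps.sp_eq_of_triangular (mult'_ne_zero ((map_ne_zero τ).mpr hy) hy)
      (hcol_smul τ φ hHt _) j).trans
      (Jumps.sp_eq_of_triangular (mult_ne_zero (d1_ne_zero hK hH hHt))
        (hcol_change τ φ hK hH hHt) j)
  rw [eq_top_iff]
  have hV := linearIndependent_values hK P hli hint ht hHt
  by_contra hne
  rw [← eq_top_iff] at hne
  obtain ⟨f, hf0, hf⟩ := Submodule.exists_le_ker_of_lt_top _ (lt_top_iff_ne_top.mpr hne)
  have hker : ∀ j, f (FunFld.hcol τ Ht ((φ i₀)⁻¹ • φ) j) = 0 := fun j => by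
    have := (heq (j + 1)).le (Jumps.mem_sp (Nat.lt_succ_self j))
    exact hf (span_mono (Set.image_subset_range _ _) this)
  let a : Fin (n + 1) → K := fun i => f (Pi.single i 1)
  have hfa : ∀ v : Fin (n + 1) → K, f v = ∑ i, v i * a i := fun v => by
    conv_lhs => rw [pi_eq_sum_univ' v]
    simp [a, map_sum]
  obtain ⟨i₁, -, hmax'⟩ := Finset.exists_max_image Finset.univ (fun i => P.1 (a i)) Finset.univ_nonempty
  have hi₁ : a i₁ ≠ 0 := fun h => hf0 (LinearMap.ext fun v => by
    rw [hfa, LinearMap.zero_apply]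
    refine Finset.sum_eq_zero fun i _ => ?_
    have := hmax' i (Finset.mem_univ i)
    rw [h, map_zero, le_zero_iff, map_eq_zero] at this
    rw [this, mul_zero])
  have hb : ∀ i, P.1 (a i / a i₁) ≤ 1 := fun i => by
    rw [map_div₀]
    exact (div_le_one₀ (zero_lt_iff.mpr ((Valuation.ne_zero_iff _).mpr hi₁))).mpr
      (hmax' i (Finset.mem_univ i))
  have h1 : FunFld.evalP P (a i₁ / a i₁) = 1 := by
    rw [div_self hi₁, FunFld.evalP, dif_pos (le_of_eq (map_one P.1))]
    exact map_one (IsLocalRing.residue P.O)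
  have := Fintype.linearIndependent_iff.mp hV (fun i => FunFld.evalP P (a i / a i₁))
    (funext fun j => ?_) i₁
  · rw [h1] at this
    exact one_ne_zero this
  rw [Finset.sum_apply, Pi.zero_apply]
  have h0 : ∑ i, a i / a i₁ * LocRes.hasseD Ht j (((φ i₀)⁻¹ • φ) i) = 0 := by
    have := hker (j + 1)
    rw [hfa] at this
    simp only [FunFld.hcol] at this
    rw [Finset.sum_congr rfl fun i _ => (by ring :
      a i / a i₁ * LocRes.hasseD Ht j (((φ i₀)⁻¹ • φ) i) =
        LocRes.hasseD Ht j (((φ i₀)⁻¹ • φ) i) * a i * (a i₁)⁻¹), ← Finset.sum_mul, this, zero_mul]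
  have hvi : ∀ i, P.1 (LocRes.hasseD Ht j (((φ i₀)⁻¹ • φ) i)) ≤ 1 := fun i =>
    Formula.val_hasseD_le hψ hψt hsep hHt (hint i) j
  let r : Fin (n + 1) → P.O := fun i =>
    ⟨a i / a i₁, hb i⟩ * ⟨LocRes.hasseD Ht j (((φ i₀)⁻¹ • φ) i), hvi i⟩
  have hr : ∑ i, r i = 0 := Subtype.ext (by
    rw [AddSubmonoidClass.coe_finsetSum, ZeroMemClass.coe_zero]
    exact h0)
  have := congrArg (IsLocalRing.residue P.O) hr
  rw [map_sum, map_zero] at this
  refine Eq.trans (Finset.sum_congr rfl fun i _ => ?_) this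
  simp only [r, map_mul, FunFld.evalP]
  rw [dif_pos (hb i)]
  exact congrArg _ (dif_pos (hvi i))

/-- Existence of orders. -/
theorem exists_orders [IsAlgClosed k] (hK : FunFld.IsFunctionField k K)
    (hφ : LinearIndependent k φ) {s : K} {H : K →ₐ[k] PowerSeries K}
    (hH : LocRes.IsHasseFamily s H) :
    ∃ J : Fin n → ℕ, FunFld.IsOrders K (FunFld.hcol τ H φ) J :=
  Jumps.exists_orders (Module.finrank_fin_fun K) (hcol_zero_ne_zero τ φ ⟨0, hφ.ne_zero 0⟩ H)
    (span_hasse_top τ φ hK hφ hH)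

theorem det_ne_zero {H : K →ₐ[k] PowerSeries K} (hφ : ∃ i, φ i ≠ 0) {J : Fin n → ℕ}
    (hJ : FunFld.IsOrders K (FunFld.hcol τ H φ) J) : (FunFld.wrMat τ H φ J).det ≠ 0 := by
  rw [Jumps.wrMat_det, Jumps.det_ne_zero_iff]
  exact Jumps.linearIndependent_sel (hcol_zero_ne_zero τ φ hφ H) hJ

theorem hcol_linear (A : Matrix (Fin (n + 1)) (Fin (n + 1)) k) (H : K →ₐ[k] PowerSeries K)
    (φ' : Fin (n + 1) → K) (hφ' : ∀ i, φ' i = ∑ j, A i j • φ j) (j : ℕ) :
    FunFld.hcol τ H φ' j = (A.map (algebraMap k K)).mulVecLin (FunFld.hcol τ H φ j) := by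
  funext i
  cases j <;>
    simp [FunFld.hcol, Matrix.mulVec, dotProduct, hφ', Algebra.smul_def, map_sum,
      PowerSeries.algebraMap_apply, PowerSeries.coeff_C_mul]

end Groth.Agent.Lib.FunFld.Hasse.Param
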