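import Groth.Agent.Lib.FunFld.Hasse.Param
import Groth.Agent.Lib.FunFld.MapDiv

/-! Orders at a place and the Wronskian near a fixed place. -/

namespace Groth.Agent.Lib.FunFld.Hasse.Local

open Submodule WithZero
open Groth.Agent.Lib.FunFld.Hasse

universe u v
variable {k : Type u} {K : Type v} [Field k] [Field K] [Algebra k K]
variable {P : _root_.FunFld.Place k K} {t : K} {H : K →ₐ[k] PowerSeries K}
variable {ψ : K →ₐ[k] LaurentSeries k}

theorem val_le_iff (hψ : LocRes.IsExpansionAt P.1 ψ) {z : K} (j : ℤ) :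
    P.1 z ≤ exp (-j) ↔ ∀ m < j, (ψ z).coeff m = 0 := by
  rw [← hψ.1]; exact LaurentSeries.valuation_le_iff_coeff_lt_eq_zero k

theorem val_eq_iff (hψ : LocRes.IsExpansionAt P.1 ψ) {z : K} (j : ℤ) :
    P.1 z = exp (-j) ↔ (∀ m < j, (ψ z).coeff m = 0) ∧ (ψ z).coeff j ≠ 0 := by
  rw [← val_le_iff hψ]
  constructor
  · intro h
    refine ⟨h.le, fun h0 => ?_⟩
    have h2 : P.1 z ≤ exp (-(j + 1)) := (val_le_iff hψ _).mpr fun m hm => by
      rcases lt_or_eq_of_le (show m ≤ j by omega) with h1 | rfl
      exacts [(val_le_iff hψ j).mp h.le m h1, h0]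
    rw [h, exp_le_exp] at h2
    omega
  · rintro ⟨h1, h2⟩
    refine le_antisymm h1 ?_
    by_contra hlt
    rw [not_le] at hlt
    have h3 : P.1 z ≤ exp (-(j + 1)) := by
      rcases eq_or_ne (P.1 z) 0 with h | h
      · simp [h]
      · rw [← exp_log h] at hlt ⊢
        rw [exp_lt_exp] at hlt
        rw [exp_le_exp]
        omega
    exact h2 ((val_le_iff hψ _).mp h3 j (by omega))

theorem coeff_combo {n : ℕ} (a : Fin n → k) (f : Fin n → K) (m : ℤ) :
    (ψ (∑ i, a i • f i)).coeff m = ∑ i, a i * (ψ (f i)).coeff m := by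
  simp only [map_sum, HahnSeries.coeff_sum, Algebra.smul_def, map_mul, LocRes.map_algebraMap,
    Algebra.algebraMap_self, RingHom.id_apply, HahnSeries.C_mul_eq_smul, HahnSeries.coeff_smul]

variable {n : ℕ} (φ : Fin (n + 1) → K)

/-- The vector of `j`-th coefficients. -/
noncomputable def cv (ψ : K →ₐ[k] LaurentSeries k) (j : ℕ) : Fin (n + 1) → k :=
  fun i => (ψ (φ i)).coeff j

theorem exists_order_iff (hψ : LocRes.IsExpansionAt P.1 ψ) (hint : ∀ i, P.1 (φ i) ≤ 1) (j : ℕ) :
    (∃ f ∈ span k (Set.range φ), P.1 f = exp (-(j : ℤ))) ↔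
      cv φ ψ j ∉ span k (cv φ ψ '' Set.Iio j) := by
  constructor
  · rintro ⟨f, hf, hv⟩ hmem
    obtain ⟨a, rfl⟩ := (mem_span_range_iff_exists_fun k).mp hf
    obtain ⟨h1, h2⟩ := (val_eq_iff hψ _).mp hv
    apply h2
    let g : (Fin (n + 1) → k) →ₗ[k] k := ∑ i, a i • LinearMap.proj i
    have hg : ∀ m, g (cv φ ψ m) = (ψ (∑ i, a i • φ i)).coeff m := fun m => by
      rw [coeff_combo]; simp [g, cv]
    have : span k (cv φ ψ '' Set.Iio j) ≤ LinearMap.ker g := by
      rw [span_le]
      rintro _ ⟨m, hm, rfl⟩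
      exact (hg m).trans (h1 m (Int.ofNat_lt.mpr hm))
    rw [← hg]
    exact this hmem
  · intro h
    obtain ⟨g, hg1, hg2⟩ := Submodule.exists_dual_map_eq_bot_of_notMem h inferInstance
    let a : Fin (n + 1) → k := fun i => g (Pi.single i 1)
    have hga : ∀ m : ℕ, g (cv φ ψ m) = (ψ (∑ i, a i • φ i)).coeff m := fun m => by
      conv_lhs => rw [pi_eq_sum_univ' (cv φ ψ m)]
      rw [coeff_combo]; simp [a, cv, mul_comm, map_sum]
    refine ⟨∑ i, a i • φ i, sum_mem fun i _ => smul_mem _ _ (subset_span ⟨i, rfl⟩),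
      (val_eq_iff hψ _).mpr ⟨fun m hm => ?_, by rw [← hga]; exact hg1⟩⟩
    rcases lt_or_ge m 0 with hm0 | hm0
    · rw [coeff_combo]
      refine Finset.sum_eq_zero fun i _ => ?_
      obtain ⟨p, hp⟩ := Formula.exists_powerSeries hψ (hint i)
      rw [← hp, PowerSeries.coeff_coe, if_pos hm0, mul_zero]
    · lift m to ℕ using hm0
      rw [← hga]
      have hmem : g (cv φ ψ m) ∈ Submodule.map g (span k (cv φ ψ '' Set.Iio j)) :=
        mem_map_of_mem (subset_span ⟨m, Int.ofNat_lt.mp hm, rfl⟩)
      rwa [hg2, mem_bot] at hmem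

/-- The jumps of the value columns. -/
theorem isJump_hcolAt_iff [IsAlgClosed k] (hK : FunFld.IsFunctionField k K)
    (hψ : LocRes.IsExpansionAt P.1 ψ) (hψt : ψ t = HahnSeries.single 1 1)
    (hH : LocRes.IsHasseFamily t H) (hint : ∀ i, P.1 (φ i) ≤ 1) (j : ℕ) :
    FunFld.IsJump (IsLocalRing.ResidueField P.O) (FunFld.hcolAt P H φ) (j + 1) ↔
      0 < j ∧ ∃ f ∈ span k (Set.range φ), P.1 f = exp (-(j : ℤ)) := by
  let R := IsLocalRing.ResidueField P.O
  let e : k ≃+* R := RingEquiv.ofBijective (algebraMap k R) (Param.res_bijective hK P)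
  have hcol : ∀ m, FunFld.hcolAt P H φ (m + 1) = fun i => algebraMap k R (cv φ ψ m i) := fun m =>
    funext fun i => Param.evalP_hasseD hK hψ hψt hH (hint i) m
  have h01 : FunFld.hcolAt P H φ 0 = FunFld.hcolAt P H φ 1 := funext fun i => by
    simp only [FunFld.hcolAt, Param.hasseD_zero hH]
  rcases Nat.eq_zero_or_pos j with rfl | hj
  · refine iff_of_false (fun h => h ?_) (fun h => lt_irrefl 0 h.1)
    exact subset_span ⟨0, Nat.one_pos, h01⟩
  rw [exists_order_iff φ hψ hint, and_iff_right hj]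
  refine not_congr ?_
  have himg : FunFld.hcolAt P H φ '' Set.Iio (j + 1) =
      (fun v : Fin (n + 1) → k => fun i => algebraMap k R (v i)) '' (cv φ ψ '' Set.Iio j) := by
    rw [Set.image_image]
    ext v
    constructor
    · rintro ⟨m, hm, rfl⟩
      cases m with
      | zero => exact ⟨0, hj, by rw [h01, hcol]⟩
      | succ m => exact ⟨m, Nat.lt_of_succ_lt_succ hm, (hcol m).symm⟩
    · rintro ⟨m, hm, rfl⟩
      exact ⟨m + 1, Nat.succ_lt_succ hm, hcol m⟩
  rw [himg, hcol]
  let σ : k →+* R := algebraMap k R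
  have : RingHomSurjective σ := ⟨(Param.res_bijective hK P).2⟩
  let L : (Fin (n + 1) → k) →ₛₗ[σ] (Fin (n + 1) → R) :=
    { toFun := fun v i => algebraMap k R (v i)
      map_add' := fun v w => funext fun i => map_add _ _ _
      map_smul' := fun c v => funext fun i => map_mul _ _ _ }
  have hL : Function.Injective L := fun v w h => funext fun i =>
    (Param.res_bijective hK P).1 (congrFun h i)
  change L (cv φ ψ j) ∈ span R (L '' _) ↔ _
  rw [span_image, mem_map]
  exact ⟨fun ⟨v, hv, hvc⟩ => hL hvc ▸ hv, fun h => ⟨_, h, rfl⟩⟩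

/-- Normal basis. -/
theorem exists_normal [IsAlgClosed k] (hK : FunFld.IsFunctionField k K)
    (hψ : LocRes.IsExpansionAt P.1 ψ) (hψt : ψ t = HahnSeries.single 1 1)
    (hH : LocRes.IsHasseFamily t H) (hφ : LinearIndependent k φ)
    (heff : (1 : K) ∈ span k (Set.range φ)) (hint : ∀ i, P.1 (φ i) ≤ 1) {J : Fin n → ℕ}
    (hJ : FunFld.IsOrders (IsLocalRing.ResidueField P.O) (FunFld.hcolAt P H φ) J) :
    (∀ l, 0 < J l) ∧ ∃ φ' : Fin (n + 1) → K,
      span k (Set.range φ') = span k (Set.range φ) ∧ LinearIndependent k φ' ∧ φ' 0 = 1 ∧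
      ∀ l : Fin n, P.1 (φ' l.succ) = exp (-(J l : ℤ)) ∧ (ψ (φ' l.succ)).coeff (J l) = 1 := by
  have hpos : ∀ l, 0 < J l := fun l =>
    ((isJump_hcolAt_iff φ hK hψ hψt hH hint (J l)).mp ((hJ.2 _).mp ⟨l, rfl⟩)).1
  refine ⟨hpos, ?_⟩
  choose f hf hfv using fun l =>
    ((isJump_hcolAt_iff φ hK hψ hψt hH hint (J l)).mp ((hJ.2 _).mp ⟨l, rfl⟩)).2
  have hc : ∀ l, (ψ (f l)).coeff (J l) ≠ 0 := fun l => ((val_eq_iff hψ _).mp (hfv l)).2
  let o : Fin (n + 1) → ℤ := Fin.cons 0 fun l => (J l : ℤ)
  let φ' : Fin (n + 1) → K := Fin.cons 1 fun l => ((ψ (f l)).coeff (J l))⁻¹ • f l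
  have hv : ∀ l : Fin n, P.1 (φ' l.succ) = exp (-(J l : ℤ)) := fun l => by
    simp only [φ', Fin.cons_succ]
    rw [Algebra.smul_def, map_mul, hfv, Place.val_algebraMap P (inv_ne_zero (hc l)), one_mul]
  have hval : ∀ i, P.1 (φ' i) = exp (-o i) := fun i => by
    cases i using Fin.cases with
    | zero => simp [φ', o]
    | succ l => rw [hv]; simp [o]
  have hli : LinearIndependent k φ' := by
    rw [Fintype.linearIndependent_iff]
    classical
    intro g hg
    by_contra hne
    push Not at hne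
    obtain ⟨i, hi, hmin⟩ := Finset.exists_min_image (Finset.univ.filter fun i => g i ≠ 0)
      (fun i => (i : Fin (n + 1))) ⟨hne.choose, by simpa using hne.choose_spec⟩
    simp only [Finset.mem_filter, Finset.mem_univ, true_and] at hi hmin
    have h1 : P.1 (∑ x, g x • φ' x) = P.1 (g i • φ' i) := by
      refine P.1.map_sum_eq_of_lt (Finset.mem_univ i) fun x hx => ?_
      simp only [Finset.mem_sdiff, Finset.mem_univ, Finset.mem_singleton, true_and] at hx
      rcases eq_or_ne (g x) 0 with h | h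
      · rw [h, zero_smul, map_zero, zero_lt_iff, Algebra.smul_def, map_mul, hval,
          Place.val_algebraMap P hi, one_mul]
        exact exp_ne_zero
      rw [Algebra.smul_def, Algebra.smul_def, map_mul, map_mul, hval, hval,
        Place.val_algebraMap P hi, Place.val_algebraMap P h, one_mul, one_mul, exp_lt_exp, neg_lt_neg_iff]
      have hlt : i < x := lt_of_le_of_ne (hmin x h) (Ne.symm hx)
      cases x using Fin.cases with
      | zero => exact absurd hlt (Fin.not_lt_zero i)
      | succ l =>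
        cases i using Fin.cases with
        | zero => simpa [o] using hpos l
        | succ l' => simpa [o] using hJ.1 (Fin.succ_lt_succ_iff.mp hlt)
    rw [hg, map_zero, Algebra.smul_def, map_mul, hval, Place.val_algebraMap P hi, one_mul] at h1
    exact exp_ne_zero h1.symm
  refine ⟨φ', ?_, hli, rfl, fun l => ⟨hv l, ?_⟩⟩
  · have hle : span k (Set.range φ') ≤ span k (Set.range φ) := by
      rw [span_le]
      rintro _ ⟨i, rfl⟩
      cases i using Fin.cases with
      | zero => exact heff
      | succ l => exact smul_mem _ _ (hf l)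
    have := FiniteDimensional.span_of_finite k (Set.finite_range φ)
    refine Submodule.eq_of_le_of_finrank_eq hle ?_
    rw [finrank_span_eq_card hli, finrank_span_eq_card hφ]
  · simp only [φ', Fin.cons_succ, Algebra.smul_def, map_mul, LocRes.map_algebraMap,
      HahnSeries.C_mul_eq_smul, HahnSeries.coeff_smul, Algebra.algebraMap_self, RingHom.id_apply]
    exact inv_mul_cancel₀ (hc l)

/-- Determinant of a matrix of Laurent series with bounded entries. -/
theorem scaled_det {N : ℕ} (g : Fin N → Fin N → LaurentSeries k) (a b : Fin N → ℤ)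
    (hg : ∀ i c, Valued.v (g i c) ≤ exp (b c - a i)) :
    Valued.v (Matrix.of g).det ≤ exp (∑ c, b c - ∑ i, a i) ∧
    (Valued.v (Matrix.of g).det = exp (∑ c, b c - ∑ i, a i) ↔
      (Matrix.of fun i c => (g i c).coeff (a i - b c)).det ≠ 0) := by
  have hN : ∀ i c, ∃ f : PowerSeries k, (f : LaurentSeries k) = HahnSeries.single (b c - a i) 1 * g i c := by
    intro i c
    refine (LaurentSeries.val_le_one_iff_eq_coe k _).mp ?_
    rw [map_mul, LaurentSeries.valuation_single_zpow]
    calc exp (-(b c - a i)) * Valued.v (g i c) ≤ exp (-(b c - a i)) * exp (b c - a i) :=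
          mul_le_mul_right (hg i c) _
      _ = 1 := by rw [← exp_add, neg_add_cancel, exp_zero]
  choose f hf using hN
  set E : LaurentSeries k := HahnSeries.ofPowerSeries ℤ k (Matrix.of f).det
  have hmul : ∀ d : Fin N → ℤ, ∏ i, HahnSeries.single (d i) (1 : k) = HahnSeries.single (∑ i, d i) 1 := by
    intro d
    induction (Finset.univ : Finset (Fin N)) using Finset.induction with
    | empty => simp
    | insert i s hi ih => rw [Finset.prod_insert hi, Finset.sum_insert hi, ih, HahnSeries.single_mul_single, one_mul]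
  have hE : E = HahnSeries.single (∑ c, b c - ∑ i, a i) 1 * (Matrix.of g).det := by
    change (HahnSeries.ofPowerSeries ℤ k) (Matrix.of f).det = _
    rw [RingHom.map_det, show HahnSeries.single (∑ c, b c - ∑ i, a i) (1 : k) =
      (∏ i, HahnSeries.single (-a i) 1) * ∏ c, HahnSeries.single (b c) 1 by
        rw [hmul, hmul, HahnSeries.single_mul_single, one_mul, Finset.sum_neg_distrib, neg_add_eq_sub],
      ← Matrix.det_diagonal, ← Matrix.det_diagonal, mul_right_comm, ← Matrix.det_mul, ← Matrix.det_mul]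
    congr 1
    refine Matrix.ext fun i c => ?_
    rw [Matrix.mul_diagonal, Matrix.diagonal_mul, RingHom.mapMatrix_apply, Matrix.map_apply,
      Matrix.of_apply, hf, mul_right_comm, HahnSeries.single_mul_single, one_mul, neg_add_eq_sub,
      Matrix.of_apply]
  have hv : Valued.v (Matrix.of g).det = Valued.v E * exp (∑ c, b c - ∑ i, a i) := by
    rw [hE, map_mul, LaurentSeries.valuation_single_zpow, mul_right_comm, ← exp_add, neg_add_cancel,
      exp_zero, one_mul]
  have hE1 : Valued.v E ≤ 1 := (LaurentSeries.val_le_one_iff_eq_coe k _).mpr ⟨_, rfl⟩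
  refine ⟨hv.trans_le (mul_le_of_le_one_left zero_le hE1), ?_⟩
  rw [hv, mul_eq_right₀ exp_ne_zero]
  have hcc : PowerSeries.constantCoeff (Matrix.of f).det =
      (Matrix.of fun i c => (g i c).coeff (a i - b c)).det := by
    rw [RingHom.map_det]
    congr 1
    refine Matrix.ext fun i c => ?_
    have h := congrArg (fun x : LaurentSeries k => x.coeff 0) (hf i c)
    simp only [PowerSeries.coeff_coe, lt_irrefl, if_false, Int.natAbs_zero,
      PowerSeries.coeff_zero_eq_constantCoeff_apply, HahnSeries.coeff_single_mul, one_mul,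
      zero_sub, neg_sub] at h
    simpa using h
  rw [← hcc]
  constructor
  · intro h h0
    have : Valued.v E ≤ exp (-1 : ℤ) := by
      refine (LaurentSeries.valuation_le_iff_coeff_lt_eq_zero k).mpr fun m hm => ?_
      rw [PowerSeries.coeff_coe]
      split_ifs with hneg
      · rfl
      · rw [show m.natAbs = 0 by omega, PowerSeries.coeff_zero_eq_constantCoeff_apply, h0]
    rw [h, ← exp_zero, exp_le_exp] at this
    omega
  · intro h
    obtain ⟨w, hw⟩ := PowerSeries.isUnit_iff_constantCoeff.mpr (Ne.isUnit h)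
    refine le_antisymm hE1 ?_
    have h1 : Valued.v ((↑w⁻¹ : PowerSeries k) : LaurentSeries k) ≤ 1 :=
      (LaurentSeries.val_le_one_iff_eq_coe k _).mpr ⟨_, rfl⟩
    have h2 := mul_le_mul_right h1 (Valued.v E)
    rwa [← map_mul, show E * ((↑w⁻¹ : PowerSeries k) : LaurentSeries k) = 1 by
      simp only [E, ← hw, ← PowerSeries.coe_mul, Units.mul_inv, PowerSeries.coe_one],
      map_one, mul_one] at h2

theorem val_map_le_one [IsAlgClosed k] (hK : FunFld.IsFunctionField k K) {τ : K →ₐ[k] K}
    (hP : FunFld.IsFixedPt τ P) {z : K} (hz : P.1 z ≤ 1) : P.1 (τ z) ≤ 1 := by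
  obtain ⟨c, hc⟩ := Param.isDegOne hK P z hz
  have h := hP _ hc
  rw [map_sub, AlgHom.commutes] at h
  have := P.1.map_add_le h.le (Place.val_algebraMap_le P c)
  rwa [sub_add_cancel] at this

theorem val_map_le [IsAlgClosed k] (hK : FunFld.IsFunctionField k K) {τ : K →ₐ[k] K}
    (hP : FunFld.IsFixedPt τ P) (ht : P.1 t = exp (-1)) {z : K} {j : ℕ}
    (hz : P.1 z ≤ exp (-(j : ℤ))) : P.1 (τ z) ≤ exp (-(j : ℤ)) ∧
      (FunFld.IsStrongFixedPt τ P → P.1 (τ z) ≤ exp (-(2 * j : ℤ))) := by
  have ht0 : t ≠ 0 := fun h => by rw [h, map_zero] at ht; exact exp_ne_zero ht.symm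
  have hz' : P.1 (z / t ^ j) ≤ 1 := by
    rw [map_div₀, map_pow, ht, ← exp_nsmul, nsmul_eq_mul, mul_neg, mul_one]
    exact (div_le_one₀ exp_pos).mpr hz
  have h1 := val_map_le_one hK hP hz'
  have ht1 : P.1 t < 1 := by rw [ht, ← exp_zero, exp_lt_exp]; norm_num
  have key : ∀ e : ℤ, P.1 (τ t) ≤ exp (-e) → P.1 (τ z) ≤ exp (-(e * j)) := fun e he => by
    rw [← div_mul_cancel₀ z (pow_ne_zero j ht0), map_mul, map_mul, map_pow, map_pow]
    refine (mul_le_mul' h1 (pow_le_pow_left' he j)).trans_eq ?_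
    rw [one_mul, ← exp_nsmul, nsmul_eq_mul, mul_neg, mul_comm]
  have h2 : P.1 (τ t) ≤ exp (-1) := (Place.val_le_exp_iff P).mpr
    (((Place.val_lt_one_iff P).mp (hP t ht1)).imp id fun h => by omega)
  exact ⟨by simpa using key 1 h2, fun hs => key 2 (hs t ht1)⟩

theorem isFixedPt_of_strong {τ : K →ₐ[k] K} (hP : FunFld.IsStrongFixedPt τ P) :
    FunFld.IsFixedPt τ P := fun z hz => (hP z hz).trans_lt (by
  rw [← exp_zero, exp_lt_exp]; norm_num)

theorem exists_matrix {φ' : Fin (n + 1) → K} (hφ' : LinearIndependent k φ')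
    (hspan : ∀ i, φ' i ∈ span k (Set.range φ)) :
    ∃ A : Matrix (Fin (n + 1)) (Fin (n + 1)) k, A.det ≠ 0 ∧ ∀ i, φ' i = ∑ j, A i j • φ j := by
  choose A hA using fun i => (mem_span_range_iff_exists_fun k).mp (hspan i)
  refine ⟨Matrix.of A, fun h => ?_, fun i => (hA i).symm⟩
  obtain ⟨w, hw0, hw⟩ := Matrix.exists_vecMul_eq_zero_iff.mpr h
  refine hw0 (funext (Fintype.linearIndependent_iff.mp hφ' w ?_))
  simp only [← hA, Finset.smul_sum, smul_smul]
  rw [Finset.sum_comm]
  simp only [← Finset.sum_smul]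
  refine Finset.sum_eq_zero fun j _ => ?_
  have := congrFun hw j
  simp only [Matrix.vecMul, dotProduct, Matrix.of_apply, Pi.zero_apply] at this
  rw [this, zero_smul]

theorem det_linear {A : Matrix (Fin (n + 1)) (Fin (n + 1)) k} {φ' : Fin (n + 1) → K}
    (hφ' : ∀ i, φ' i = ∑ j, A i j • φ j) (τ : K →ₐ[k] K) (H : K →ₐ[k] PowerSeries K) (I : Fin n → ℕ) :
    (FunFld.wrMat τ H φ' I).det = algebraMap k K A.det * (FunFld.wrMat τ H φ I).det := by
  have h := Param.hcol_linear τ φ A H φ' hφ'
  rw [show FunFld.wrMat τ H φ' I = A.map (algebraMap k K) * FunFld.wrMat τ H φ I from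
      Matrix.ext fun i c => by
        cases c using Fin.cases with
        | zero =>
          have := congrFun (h 0) i
          simpa [FunFld.wrMat, FunFld.hcol, Matrix.mul_apply, Matrix.mulVec, dotProduct] using this
        | succ l =>
          have := congrFun (h (I l + 1)) i
          simpa [FunFld.wrMat, FunFld.hcol, Matrix.mul_apply, Matrix.mulVec, dotProduct] using this,
    Matrix.det_mul, RingHom.map_det]
  rfl

/-- The Wronskian at a fixed place. -/
theorem val_det [IsAlgClosed k] (hK : FunFld.IsFunctionField k K) {τ : K →ₐ[k] K}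
    (hP : FunFld.IsFixedPt τ P) (hψ : LocRes.IsExpansionAt P.1 ψ)
    (hψt : ψ t = HahnSeries.single 1 1) (ht : P.1 t = exp (-1))
    (hH : LocRes.IsHasseFamily t H) (hφ : LinearIndependent k φ)
    (heff : (1 : K) ∈ span k (Set.range φ)) (hint : ∀ i, P.1 (φ i) ≤ 1) {J : Fin n → ℕ}
    (hJ : FunFld.IsOrders (IsLocalRing.ResidueField P.O) (FunFld.hcolAt P H φ) J) (I : Fin n → ℕ) :
    P.1 (FunFld.wrMat τ H φ I).det ≤ exp (-(∑ l, ((J l : ℤ) - I l))) ∧
    (((∀ l, 0 < I l) ∨ FunFld.IsStrongFixedPt τ P) →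
      (P.1 (FunFld.wrMat τ H φ I).det = exp (-(∑ l, ((J l : ℤ) - I l))) ↔
        (FunFld.binomMat k J I).det ≠ 0)) := by
  obtain ⟨hpos, φ', hsp, hli, h0, hφ'⟩ := exists_normal φ hK hψ hψt hH hφ heff hint hJ
  obtain ⟨A, hA, hAeq⟩ := exists_matrix φ hli fun i => hsp ▸ subset_span ⟨i, rfl⟩
  have hval : P.1 (FunFld.wrMat τ H φ I).det = P.1 (FunFld.wrMat τ H φ' I).det := by
    rw [det_linear φ hAeq, map_mul, Place.val_algebraMap P hA, one_mul]
  have hint' : ∀ i, P.1 (φ' i) ≤ 1 := fun i => by
    cases i using Fin.cases with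
    | zero => rw [h0, map_one]
    | succ l => rw [(hφ' l).1, ← exp_zero, exp_le_exp]; omega
  have hsep := Param.isSep_of_family hK hH
  let g : Fin (n + 1) → Fin (n + 1) → LaurentSeries k := fun i c => ψ (FunFld.wrMat τ H φ' I i c)
  let a : Fin (n + 1) → ℤ := Fin.cons 0 fun l => (J l : ℤ)
  let b : Fin (n + 1) → ℤ := Fin.cons 0 fun l => (I l : ℤ)
  have hcoef : ∀ (i : Fin (n + 1)) (l : Fin n) (m : ℤ), (g i l.succ).coeff m =
      Ring.choose (m + I l) (I l) • (ψ (φ' i)).coeff (m + I l) := fun i l m => by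
    simp only [g, FunFld.wrMat, Matrix.of_apply, Fin.cases_succ]
    rw [Formula.formula hψ hψt hsep hH (hint' i), LaurentSeries.hasseDeriv_coeff]
  have hbd : ∀ i c, Valued.v (g i c) ≤ exp (b c - a i) := by
    intro i c
    cases c using Fin.cases with
    | zero =>
      simp only [g, b, FunFld.wrMat, Matrix.of_apply, Fin.cases_zero, Fin.cons_zero, zero_sub, hψ.1]
      cases i using Fin.cases with
      | zero => simp [a, h0]
      | succ r => simpa [a] using (val_map_le hK hP ht (hφ' r).1.le).1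
    | succ l =>
      rw [show b l.succ - a i = -(a i - I l) by simp [b],
        LaurentSeries.valuation_le_iff_coeff_lt_eq_zero]
      intro m hm
      rw [hcoef, (val_le_iff hψ (a i)).mp ?_ _ (by omega), smul_zero]
      cases i using Fin.cases with
      | zero => simp [a, h0]
      | succ r => simpa [a] using (hφ' r).1.le
  have hdet : Valued.v (Matrix.of g).det = P.1 (FunFld.wrMat τ H φ' I).det := by
    rw [← hψ.1, ← AlgHom.coe_toRingHom, RingHom.map_det]
    rfl
  have hsum : ∑ c, b c - ∑ i, a i = -(∑ l, ((J l : ℤ) - I l)) := by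
    rw [Fin.sum_univ_succ, Fin.sum_univ_succ]
    simp only [a, b, Fin.cons_zero, Fin.cons_succ, zero_add, Finset.sum_sub_distrib, neg_sub]
  obtain ⟨h1, h2⟩ := scaled_det g a b hbd
  rw [hdet, hsum] at h1 h2
  refine ⟨hval.trans_le h1, fun hcase => ?_⟩
  rw [hval, h2]
  refine iff_of_eq (congrArg (· ≠ 0) ?_)
  rw [Matrix.det_succ_column_zero, Fin.sum_univ_succ]
  have hg00 : (g 0 0).coeff (a 0 - b 0) = 1 := by simp [g, a, b, FunFld.wrMat, h0]
  have hblock : (Matrix.of fun i c => (g i c).coeff (a i - b c)).submatrix (Fin.succAbove 0) Fin.succ =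
      FunFld.binomMat k J I := by
    refine Matrix.ext fun r l => ?_
    simp only [Matrix.submatrix_apply, Fin.succAbove_zero, Matrix.of_apply, hcoef, FunFld.binomMat]
    simp only [a, b, Fin.cons_succ, sub_add_cancel, (hφ' r).2, Ring.choose_natCast]
    rw [zsmul_eq_mul, mul_one, Int.cast_natCast]
  rw [hblock, Matrix.of_apply, hg00]
  simp only [Fin.val_zero, pow_zero, one_mul]
  rw [add_eq_left]
  refine Finset.sum_eq_zero fun r _ => ?_
  rcases hcase with hI | hs
  · -- the first row of the minor vanishes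
    rw [mul_eq_zero]; right
    have : n ≠ 0 := by have := r.2; omega
    obtain ⟨m, rfl⟩ := Nat.exists_eq_succ_of_ne_zero this
    refine Matrix.det_eq_zero_of_row_eq_zero 0 fun l => ?_
    simp only [Matrix.submatrix_apply, Fin.succ_succAbove_zero, Matrix.of_apply, hcoef]
    simp only [a, b, Fin.cons_zero, Fin.cons_succ, zero_sub, neg_add_cancel, h0, map_one,
      Ring.choose_zero_pos (R := ℤ) (hI l), zero_smul]
  · -- the first column vanishes
    rw [mul_eq_zero]; left
    rw [mul_eq_zero]; right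
    have h := (val_map_le hK hP ht (hφ' r).1.le).2 hs
    simp only [Matrix.of_apply, g, a, b, FunFld.wrMat, Fin.cases_zero, Fin.cons_zero, Fin.cons_succ,
      sub_zero]
    exact (val_le_iff hψ _).mp h (J r) (by have := hpos r; omega)

theorem eq_zero_of_binom {J : Fin n → ℕ} (hJ : StrictMono J) {j0 e : ℕ} (hj0 : ∀ r, j0 ≤ J r)
    {b : Fin n → k} (hb : ∀ r, b r ≠ 0 → J r ≤ e + j0)
    (h : ∀ q ≤ e, ∑ r, b r * ((J r).choose q : k) = 0) : b = 0 := by
  let Q : Polynomial k := ∑ r, Polynomial.monomial (J r - j0) (b r)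
  have hdeg : Q.natDegree ≤ e := Polynomial.natDegree_sum_le_of_forall_le _ _ fun r _ => by
    rcases eq_or_ne (b r) 0 with h0 | h0
    · simp [h0]
    · exact (Polynomial.natDegree_monomial_le _).trans (by have := hb r h0; omega)
  have hR : (Polynomial.X + 1) ^ j0 * Polynomial.taylor 1 Q =
      ∑ r, Polynomial.C (b r) * (Polynomial.X + 1) ^ J r := by
    simp only [Q, map_sum, Finset.mul_sum]
    refine Finset.sum_congr rfl fun r _ => ?_
    rw [Polynomial.taylor_apply, Polynomial.monomial_comp, map_one, mul_left_comm, ← pow_add,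
      Nat.add_sub_cancel' (hj0 r)]
  have hdvd : Polynomial.X ^ (e + 1) ∣ (Polynomial.X + 1) ^ j0 * Polynomial.taylor 1 Q := by
    rw [hR, Polynomial.X_pow_dvd_iff]
    intro q hq
    rw [Polynomial.finsetSum_coeff]
    simpa [Polynomial.coeff_X_add_one_pow] using h q (by omega)
  have hcop : IsCoprime (Polynomial.X ^ (e + 1)) ((Polynomial.X + 1 : Polynomial k) ^ j0) :=
    IsCoprime.pow ⟨-1, 1, by ring⟩
  have h0 : Polynomial.taylor 1 Q = 0 := Polynomial.eq_zero_of_dvd_of_natDegree_lt
    (hcop.dvd_of_dvd_mul_left hdvd) (by rw [Polynomial.natDegree_taylor, Polynomial.natDegree_X_pow]; omega)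
  have hQ : Q = 0 := Polynomial.taylor_injective 1 (by rw [h0, map_zero])
  funext r
  have := congrArg (fun p : Polynomial k => p.coeff (J r - j0)) hQ
  simp only [Q, Polynomial.finsetSum_coeff, Polynomial.coeff_monomial, Polynomial.coeff_zero] at this
  rw [Finset.sum_eq_single r] at this
  · simpa using this
  · intro x _ hxr
    rw [if_neg]
    intro he
    exact hxr (hJ.injective (by have := hj0 x; have := hj0 r; omega))
  · simp

/-- The columns of binomial coefficients, with a leading unit column. -/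
def binCol (k : Type u) [Field k] (J : Fin n → ℕ) : ℕ → Fin (n + 1) → k
  | 0 => Pi.single 0 1
  | q + 1 => Fin.cons 0 fun r => ((J r).choose q : k)

theorem det_cons_single (v : Fin n → Fin (n + 1) → k) :
    (Matrix.of (Fin.cons (Pi.single 0 1) v : Fin (n + 1) → Fin (n + 1) → k)).det =
      (Matrix.of fun r c => v r c.succ).det := by
  rw [Matrix.det_succ_row_zero, Finset.sum_eq_single (0 : Fin (n + 1))]
  · simp only [Matrix.of_apply, Fin.cons_zero, Pi.single_eq_same, Fin.val_zero, pow_zero, one_mul]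
    congr 1
  · intro c _ hc
    simp only [Matrix.of_apply, Fin.cons_zero, Pi.single_eq_of_ne hc, mul_zero, zero_mul]
  · simp

theorem det_sel_binCol (J I : Fin n → ℕ) :
    (Matrix.of (Jumps.sel (binCol k J) I)).det = (FunFld.binomMat k J I).det := by
  rw [show Jumps.sel (binCol k J) I =
    Fin.cons (Pi.single 0 1) (fun l => binCol k J (I l + 1)) from rfl, det_cons_single,
    ← Matrix.det_transpose]
  rfl

/-- Some order sequence with nonzero binomial determinant below the shifted one. -/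
theorem exists_binom {J : Fin n → ℕ} (hJ : StrictMono J) (hn : 0 < n) :
    ∃ I : Fin n → ℕ, StrictMono I ∧ (FunFld.binomMat k J I).det ≠ 0 ∧
      ∀ l, I l + J ⟨0, hn⟩ ≤ J l := by
  set j0 := J ⟨0, hn⟩
  have hge : ∀ l, j0 ≤ J l := fun l => hJ.monotone (Fin.le_def.mpr (Nat.zero_le _))
  have h0 : binCol k J 0 ≠ 0 := fun h => one_ne_zero (α := k) (by simpa [binCol] using congrFun h 0)
  have hkill : ∀ (a : Fin (n + 1) → k) (e : ℕ), (∀ r : Fin n, a r.succ ≠ 0 → J r ≤ e + j0) →
      (∀ m, m ≤ e + 1 → ∑ i, a i * binCol k J m i = 0) → a = 0 := by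
    intro a e hsupp hz
    have ha0 : a 0 = 0 := by simpa [binCol, Pi.single_apply] using hz 0 (Nat.zero_le _)
    have := eq_zero_of_binom hJ hge hsupp fun q hq => by
      simpa [binCol, Fin.sum_univ_succ] using hz (q + 1) (by omega)
    funext i
    cases i using Fin.cases with
    | zero => exact ha0
    | succ r => exact congrFun this r
  have htop : span k (Set.range (binCol k J)) = ⊤ := by
    by_contra hne
    obtain ⟨f, hf0, hf⟩ := Submodule.exists_le_ker_of_lt_top _ (lt_top_iff_ne_top.mpr hne)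
    have hfv : ∀ v : Fin (n + 1) → k, f v = ∑ i, f (Pi.single i 1) * v i := fun v => by
      conv_lhs => rw [pi_eq_sum_univ' v]
      simp [mul_comm, map_sum]
    have := hkill (fun i => f (Pi.single i 1)) (Finset.univ.sup J)
      (fun r _ => (Finset.le_sup (Finset.mem_univ r)).trans (Nat.le_add_right _ _))
      fun m _ => by rw [← hfv]; exact hf (subset_span ⟨m, rfl⟩)
    exact hf0 (LinearMap.ext fun v => by
      rw [hfv, LinearMap.zero_apply]
      exact Finset.sum_eq_zero fun i _ => by rw [congrFun this i, Pi.zero_apply, zero_mul])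
  obtain ⟨I, hI⟩ := Jumps.exists_orders (Module.finrank_fin_fun k) h0 htop
  refine ⟨I, hI.1, ?_, fun l => ?_⟩
  · have := (Jumps.det_ne_zero_iff (d := binCol k J) I).mpr
      (Jumps.linearIndependent_sel (R := k) (c := binCol k J) h0 hI)
    rwa [det_sel_binCol] at this
  · by_contra hlt
    set e := J l - j0
    let inc : Fin (l.val + 2) → Fin (n + 1) := fun i => ⟨i.val, by have := i.2; have := l.2; omega⟩
    let π : (Fin (n + 1) → k) →ₗ[k] (Fin (l.val + 2) → k) := LinearMap.funLeft k k inc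
    let pre : Fin (l.val + 1) → Fin (n + 1) := fun i => ⟨i.val, by have := i.2; have := l.2; omega⟩
    let W := span k (Set.range (π ∘ Jumps.sel (binCol k J) I ∘ pre))
    have hW : W < ⊤ := lt_top_iff_ne_top.mpr fun h => by
      have h1 := (finrank_range_le_card (R := k) (π ∘ Jumps.sel (binCol k J) I ∘ pre))
      rw [Set.finrank, show span k _ = W from rfl, h, finrank_top, Module.finrank_fin_fun,
        Fintype.card_fin] at h1
      omega
    obtain ⟨f, hf0, hf⟩ := Submodule.exists_le_ker_of_lt_top _ hW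
    have hkill' : ∀ m, m ≤ e + 1 → f (π (binCol k J m)) = 0 := fun m hm => by
      have hlt' : e + 1 < Jumps.idx I l.succ := by have := hge l; simp [Jumps.idx]; omega
      have h1 := Jumps.sp_le_span_sel h0 hI l.succ (Jumps.mem_sp (hm.trans_lt hlt'))
      have h2 : π (binCol k J m) ∈ W := by
        refine span_mono ?_ ((span_image π).ge (mem_map_of_mem h1))
        rintro _ ⟨_, ⟨i, hi, rfl⟩, rfl⟩
        exact ⟨⟨i.val, by simpa [Fin.lt_def] using hi⟩, rfl⟩
      exact hf h2
    let a : Fin (n + 1) → k := fun i =>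
      if h : i.val < l.val + 2 then f (Pi.single ⟨i.val, h⟩ 1) else 0
    have hsum : ∀ v : Fin (n + 1) → k, ∑ i, a i * v i = f (π v) := fun v => by
      conv_rhs => rw [pi_eq_sum_univ' (π v)]
      rw [map_sum, ← Fintype.sum_of_injective inc (fun x y h => Fin.ext (congrArg Fin.val h :))
        (fun i => a (inc i) * v (inc i)) (fun i => a i * v i) ?_ fun i => rfl]
      · refine Finset.sum_congr rfl fun i _ => ?_
        simp only [a, map_smul, smul_eq_mul, π, LinearMap.funLeft_apply]
        rw [dif_pos (show (inc i).val < l.val + 2 from i.2)]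
        exact mul_comm _ _
      · intro i hi
        simp only [a]
        rw [dif_neg fun h => hi ⟨⟨i.val, h⟩, rfl⟩, zero_mul]
    have := hkill a e (fun r hr => by
      simp only [a] at hr
      split_ifs at hr with h
      · have : J r ≤ J l := hJ.monotone (Fin.le_def.mpr (by simp at h; omega))
        have := hge r; have := hge l
        omega
      · exact absurd rfl hr) fun m hm => (hsum _).trans (hkill' m hm)
    refine hf0 (LinearMap.ext fun v => ?_)
    rw [pi_eq_sum_univ' v, map_sum, LinearMap.zero_apply]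
    refine Finset.sum_eq_zero fun i _ => ?_
    have h' := congrFun this (inc i)
    simp only [a, Pi.zero_apply] at h'
    rw [dif_pos (show (inc i).val < l.val + 2 from i.2)] at h'
    rw [map_smul, show f (Pi.single i 1) = 0 from h', smul_zero]

end Groth.Agent.Lib.FunFld.Hasse.Local
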