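import Groth.Agent.Lib.FunFld.Hasse.Wdiv
import Groth.Agent.Lib.FunFld.Gaps
import Mathlib.RingTheory.Polynomial.Pochhammer
import Mathlib.Algebra.Polynomial.Roots
import Mathlib.Data.Nat.Choose.Dvd

/-! Classicality below the characteristic; orders of the canonical map. -/

namespace Groth.Agent.Lib.FunFld.Hasse.Classical

open WithZero Submodule
open Groth.Agent.Lib.FunFld Groth.Agent.Lib.FunFld.Hasse

universe u v
variable {k : Type u} [Field k]

theorem natCast_ne_zero_of_le {B : ℕ} (hchar : ringChar k = 0 ∨ B < ringChar k) {m : ℕ}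
    (hm0 : m ≠ 0) (hm : m ≤ B) : (m : k) ≠ 0 := by
  rw [Ne, ringChar.spec]
  rcases hchar with h | h
  · rw [h, zero_dvd_iff]; exact hm0
  · exact fun hd => hm0 (Nat.eq_zero_of_dvd_of_lt hd (lt_of_le_of_lt hm h))

theorem natCast_inj_of_le {B : ℕ} (hchar : ringChar k = 0 ∨ B < ringChar k) {a b : ℕ}
    (ha : a ≤ B) (hb : b ≤ B) (h : (a : k) = b) : a = b := by
  wlog hab : a ≤ b generalizing a b
  · exact (this hb ha h.symm (le_of_not_ge hab)).symm
  by_contra hne
  refine natCast_ne_zero_of_le hchar (m := b - a) (by omega) (by omega) ?_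
  rw [Nat.cast_sub hab, h, sub_self]

theorem strictMono_add_le {n : ℕ} {J : Fin n → ℕ} (hJ : StrictMono J) {s : ℕ} (hs : ∀ l, s ≤ J l)
    (l : Fin n) : (l : ℕ) + s ≤ J l := by
  obtain ⟨m, hm⟩ := l
  induction m with
  | zero => simpa using hs ⟨0, hm⟩
  | succ m ih =>
    have h := hJ (show (⟨m, by omega⟩ : Fin n) < ⟨m + 1, hm⟩ from Nat.lt_succ_self m)
    have := ih (by omega)
    change m + 1 + s ≤ _
    change m + s ≤ _ at this
    omega

/-- The binomial matrix of small orders is nonsingular. -/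
theorem det_binom_ne_zero {n B s : ℕ} {J : Fin n → ℕ} (hJ : StrictMono J)
    (hB : ∀ l, J l ≤ B) (hchar : ringChar k = 0 ∨ B < ringChar k) (hs : s ≤ 1) (hJs : ∀ l, s ≤ J l) :
    (FunFld.binomMat k J fun l : Fin n => (l : ℕ) + s).det ≠ 0 := by
  classical
  intro hdet
  obtain ⟨c, hc0, hc⟩ := Matrix.exists_mulVec_eq_zero_iff.mpr hdet
  have hnB : ∀ l : Fin n, (l : ℕ) + s ≤ B := fun l => (strictMono_add_le hJ hJs l).trans (hB l)
  have hfac : ∀ q, q ≤ B → (Nat.factorial q : k) ≠ 0 := fun q hq => by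
    induction q with
    | zero => simp
    | succ q ih =>
      rw [Nat.factorial_succ, Nat.cast_mul]
      exact mul_ne_zero (natCast_ne_zero_of_le hchar (Nat.succ_ne_zero q) hq) (ih (by omega))
  let R : Polynomial k :=
    ∑ l : Fin n, Polynomial.C (c l / (Nat.factorial ((l : ℕ) + s) : k)) * descPochhammer k ((l : ℕ) + s)
  have heval : ∀ m : ℕ, R.eval (m : k) = ∑ l : Fin n, c l * (m.choose ((l : ℕ) + s) : k) := fun m => by
    rw [Polynomial.eval_finsetSum]
    refine Finset.sum_congr rfl fun l _ => ?_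
    rw [Polynomial.eval_mul, Polynomial.eval_C, descPochhammer_eval_eq_descFactorial,
      Nat.descFactorial_eq_factorial_mul_choose, Nat.cast_mul, ← mul_assoc,
      div_mul_cancel₀ _ (hfac _ (hnB l))]
  have hroot : ∀ r : Fin n, R.eval (J r : k) = 0 := fun r => by
    rw [heval]
    have := congrFun hc r
    simp only [Matrix.mulVec, dotProduct, FunFld.binomMat, Matrix.of_apply, Pi.zero_apply] at this
    rw [← this]
    exact Finset.sum_congr rfl fun l _ => mul_comm _ _
  have hR : R = 0 := by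
    let S : Finset k := (Finset.univ.image fun r : Fin n => (J r : k)) ∪ (if s = 0 then ∅ else {0})
    refine Polynomial.eq_zero_of_natDegree_lt_card_of_eval_eq_zero' R S (fun x hx => ?_) ?_
    · rcases Finset.mem_union.mp hx with hx | hx
      · obtain ⟨r, -, rfl⟩ := Finset.mem_image.mp hx
        exact hroot r
      · split_ifs at hx with hs0
        · simp at hx
        · have h0 := heval 0
          rw [Nat.cast_zero] at h0
          rw [Finset.mem_singleton.mp hx, h0]
          exact Finset.sum_eq_zero fun l _ => by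
            rw [Nat.choose_eq_zero_of_lt (by omega), Nat.cast_zero, mul_zero]
    · have hcard : S.card = n + s := by
        rw [Finset.card_union_of_disjoint, Finset.card_image_of_injective _ fun a b hab =>
          hJ.injective (natCast_inj_of_le hchar (hB a) (hB b) hab), Finset.card_univ, Fintype.card_fin]
        · split_ifs with hs0
          · simp [hs0]
          · simp; omega
        · split_ifs with hs0
          · exact Finset.disjoint_empty_right _
          · rw [Finset.disjoint_singleton_right]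
            intro h
            obtain ⟨r, -, hr⟩ := Finset.mem_image.mp h
            exact natCast_ne_zero_of_le hchar (by have := hJs r; omega) (hB r) hr
      rw [hcard]
      rcases Nat.eq_zero_or_pos n with rfl | hn
      · exact absurd (funext fun l => Fin.elim0 l) hc0
      refine lt_of_le_of_lt (Polynomial.natDegree_sum_le_of_forall_le _ _ (n := n - 1 + s) fun l _ => ?_) (by omega)
      exact (Polynomial.natDegree_C_mul_le _ _).trans
        ((descPochhammer_natDegree k _).le.trans (by have := l.2; omega))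
  refine hc0 (funext fun l => ?_)
  obtain ⟨m, hm⟩ := l
  induction m using Nat.strong_induction_on with
  | _ m ih =>
    obtain ⟨l, hl⟩ : ∃ l : Fin n, l = ⟨m, hm⟩ := ⟨_, rfl⟩
    rw [← hl]
    have hlv : (l : ℕ) = m := by rw [hl]
    have h := heval ((l : ℕ) + s)
    rw [hR, Polynomial.eval_zero, Finset.sum_eq_single l] at h
    · simpa using h.symm
    · intro x _ hx
      rcases lt_or_gt_of_ne hx with h' | h'
      · rw [show c x = 0 from ih x (by omega) x.2, zero_mul]
      · rw [Nat.choose_eq_zero_of_lt (by omega), Nat.cast_zero, mul_zero]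
    · simp

variable {K : Type v} [Field K] [Algebra k K]

/-- Orders at a place are at most the degree. -/
theorem order_le_deg [IsAlgClosed k] (hK : FunFld.IsFunctionField k K) {P : _root_.FunFld.Place k K}
    {n : ℕ} {φ : Fin (n + 1) → K} (hφ : LinearIndependent k φ) (hint : ∀ i, P.1 (φ i) ≤ 1)
    (heff : (1 : K) ∈ span k (Set.range φ)) {f : K} (hf : f ∈ span k (Set.range φ)) {j : ℕ}
    (hfv : P.1 f = exp (-(j : ℤ))) : (j : ℤ) ≤ (FunFld.mapDiv k φ).deg := by
  classical
  have hne : ∀ i, φ i ≠ 0 := fun i => hφ.ne_zero i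
  have hf0 : f ≠ 0 := fun h => by rw [h, map_zero] at hfv; exact exp_ne_zero hfv.symm
  have hle : Finsupp.single P (j : ℤ) ≤ FunFld.div k f + FunFld.mapDiv k φ := by
    refine Finsupp.le_def.mpr fun Q => ?_
    have h1 := Diff.val_le_of_mem_span (Diff.exp_mapDiv hK hne Q).1 hf
    rw [Place.val_eq_exp Q hf0, exp_le_exp] at h1
    rw [Finsupp.add_apply, Degree.div_apply hK]
    rcases eq_or_ne Q P with rfl | hQ
    · rw [Finsupp.single_eq_same, Diff.mapDiv_normalized hK hne hint heff,
        Place.ord_eq_of_val_eq_exp Q hfv]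
      omega
    · rw [Finsupp.single_eq_of_ne hQ]; omega
  have h := Degree.deg_mono hle
  rwa [Degree.deg_single, Degree.deg_add, Degree.deg_div hK, Wdiv.deg_eq_one hK, zero_add,
    Nat.cast_one, mul_one] at h

theorem deg_mapDiv_nonneg (hK : FunFld.IsFunctionField k K) {ι : Type*} [Fintype ι] [Nonempty ι]
    {φ : ι → K} (hφ : ∀ i, φ i ≠ 0) : 0 ≤ (FunFld.mapDiv k φ).deg := by
  obtain ⟨i⟩ := (inferInstance : Nonempty ι)
  have h : -FunFld.div k (φ i) ≤ FunFld.mapDiv k φ := Finsupp.le_def.mpr fun P => by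
    rw [Finsupp.neg_apply, Degree.div_apply hK]
    have h1 := (Diff.exp_mapDiv hK hφ P).1 i
    rw [Place.val_eq_exp P (hφ i), exp_le_exp] at h1
    omega
  have h2 := Degree.deg_mono h
  rwa [Degree.deg_neg, Degree.deg_div hK, neg_zero] at h2

theorem deg_mapDiv_mul (hK : FunFld.IsFunctionField k K) {ι : Type*} [Fintype ι] [Nonempty ι]
    {φ : ι → K} (hφ : ∀ i, φ i ≠ 0) {y : K} (hy : y ≠ 0) :
    (FunFld.mapDiv k fun i => y * φ i).deg = (FunFld.mapDiv k φ).deg := by
  have heq : FunFld.mapDiv k (fun i => y * φ i) = FunFld.mapDiv k φ - FunFld.div k y :=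
    Finsupp.ext fun P => by
      rw [Finsupp.sub_apply, Degree.div_apply hK]
      exact Diff.mapDiv_smul hK hφ hy P
  rw [heq, Degree.deg_sub, Degree.deg_div hK, sub_zero]

/-- A map of small degree has the smallest possible orders. -/
theorem orders_eq [IsAlgClosed k] (hK : FunFld.IsFunctionField k K) {n : ℕ} {φ : Fin (n + 1) → K}
    (hφ : LinearIndependent k φ)
    (hchar : ringChar k = 0 ∨ (FunFld.mapDiv k φ).deg < ringChar k)
    {τ : K →ₐ[k] K} {P : _root_.FunFld.Place k K} {s : ℕ}
    (hcase : (τ = AlgHom.id k K ∧ s = 1) ∨ (FunFld.IsStrongFixedPt τ P ∧ s = 0))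
    {x : K} {H : K →ₐ[k] PowerSeries K} (hH : LocRes.IsHasseFamily x H) :
    FunFld.IsOrders K (FunFld.hcol τ H φ) fun l : Fin n => (l : ℕ) + s := by
  obtain ⟨J, hJ⟩ := Param.exists_orders τ φ hK hφ hH
  obtain ⟨y, hy, hli, hint, heff⟩ := Wdiv.exists_normalized P φ hφ
  obtain ⟨t, ψ, Ht, ht, hψ, hψt, hHt⟩ := Wdiv.exists_local hK P
  obtain ⟨Φ, hΦ⟩ := Wdiv.exists_expansions hK
  obtain ⟨hJt, -⟩ := Diff.wDiv_invariant hK hφ τ hH hHt hJ (A := 1)
    (by rw [Matrix.det_one]; exact one_ne_zero) hy (φ' := fun i => y * φ i)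
    (fun i => by simp [Matrix.one_apply, ite_smul]) Φ hΦ
  obtain ⟨J', hJ'⟩ := Diff.exists_orders_at hK hli heff hint ht hHt
  have hfix : FunFld.IsFixedPt τ P := hcase.elim (fun h z hz => by rw [h.1]; exact hz)
    fun h => Local.isFixedPt_of_strong h.1
  have hB : ∀ l, 0 < J' l ∧ J' l ≤ (FunFld.mapDiv k φ).deg.toNat := fun l => by
    obtain ⟨hpos, f, hf, hfv⟩ :=
      (Local.isJump_hcolAt_iff _ hK hψ hψt hHt hint (J' l)).mp ((hJ'.2 _).mp ⟨l, rfl⟩)
    have h := order_le_deg hK hli hint heff hf hfv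
    rw [deg_mapDiv_mul hK (fun i => hφ.ne_zero i) hy] at h
    exact ⟨hpos, by omega⟩
  have hchar' : ringChar k = 0 ∨ (FunFld.mapDiv k φ).deg.toNat < ringChar k := hchar.imp_right fun h => by
    have := deg_mapDiv_nonneg hK (fun i => hφ.ne_zero i)
    omega
  have hs : s ≤ 1 := hcase.elim (fun h => h.2.le) fun h => h.2.le.trans (Nat.zero_le 1)
  have hdet := det_binom_ne_zero (k := k) hJ'.1 (fun l => (hB l).2) hchar' hs
    fun l => hs.trans (hB l).1
  have hI : StrictMono fun l : Fin n => (l : ℕ) + s := fun a b h => Nat.add_lt_add_right h s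
  have hcond : (∀ l : Fin n, 0 < (l : ℕ) + s) ∨ FunFld.IsStrongFixedPt τ P :=
    hcase.imp (fun h l => by omega) fun h => h.1
  have hne : (FunFld.wrMat τ Ht (fun i => y * φ i) fun l : Fin n => (l : ℕ) + s).det ≠ 0 := fun h0 => by
    have := ((Local.val_det _ hK hfix hψ hψt ht hHt hli heff hint hJ' _).2 hcond).mpr hdet
    rw [h0, map_zero] at this
    exact exp_ne_zero this.symm
  have hle := Jumps.orders_le (Param.hcol_zero_ne_zero τ _ ⟨0, hli.ne_zero 0⟩ Ht) hJt hI
    ((Jumps.det_ne_zero_iff _).mp (Jumps.wrMat_det τ Ht _ _ ▸ hne))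
  have hJs : ∀ l, s ≤ J l := fun l => by
    rcases hcase with ⟨rfl, rfl⟩ | ⟨-, rfl⟩
    · refine Nat.one_le_iff_ne_zero.mpr fun h0 => absurd ?_ ((hJ.2 0).mp ⟨l, h0⟩)
      refine subset_span ⟨0, Nat.one_pos, funext fun i => ?_⟩
      simp only [FunFld.hcol, AlgHom.id_apply, Param.hasseD_zero hH]
    · exact Nat.zero_le _
  have hJeq : J = fun l : Fin n => (l : ℕ) + s :=
    funext fun l => le_antisymm (hle l) (strictMono_add_le hJ.1 hJs l)
  rwa [← hJeq]

/-- The orders of the canonical map at a place and the gaps. -/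
theorem exists_val_canonical_iff (hK : FunFld.IsFunctionField k K) {P : _root_.FunFld.Place k K}
    (hP : P.deg = 1) {C : _root_.FunFld.Divisor k K} (hC : FunFld.IsCanonical k K C) (j : ℕ) :
    (∃ z ∈ FunFld.L C, P.1 z = exp (C P - j)) ↔ ¬ Gaps.IsPole P (j + 1) := by
  classical
  set D₀ := C - Finsupp.single P (j : ℤ)
  set D₁ := C - Finsupp.single P ((j + 1 : ℕ) : ℤ)
  have hmem : ∀ (m : ℕ) (z : K), z ∈ FunFld.L (C - Finsupp.single P (m : ℤ)) ↔
      z ∈ FunFld.L C ∧ P.1 z ≤ exp (C P - m) := fun m z => by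
    constructor
    · intro h
      refine ⟨Degree.L_mono (sub_le_self _ (Finsupp.single_nonneg.mpr (Int.natCast_nonneg m))) h, ?_⟩
      simpa using h P
    · rintro ⟨h1, h2⟩ Q
      rcases eq_or_ne Q P with rfl | hQ
      · simpa using h2
      · simpa [Finsupp.single_eq_of_ne hQ] using h1 Q
  have hle : FunFld.L D₁ ≤ FunFld.L D₀ := Degree.L_mono (sub_le_sub_left (Finsupp.single_mono (by omega)) _)
  have := Degree.finiteDimensional_L hK D₀
  have := Degree.finiteDimensional_L hK D₁
  have hiff : (∃ z ∈ FunFld.L C, P.1 z = exp (C P - j)) ↔ FunFld.L D₁ ≠ FunFld.L D₀ := by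
    constructor
    · rintro ⟨z, hz, hv⟩ he
      have hz0 : z ∈ FunFld.L D₀ := (hmem j z).mpr ⟨hz, hv.le⟩
      rw [← he] at hz0
      have h := ((hmem (j + 1) z).mp hz0).2
      rw [hv, exp_le_exp] at h
      omega
    · intro hne
      obtain ⟨z, hz, hz'⟩ := SetLike.exists_of_lt (lt_of_le_of_ne hle hne)
      obtain ⟨hz1, hz2⟩ := (hmem j z).mp hz
      refine ⟨z, hz1, le_antisymm hz2 (le_of_not_gt fun hlt => hz' ((hmem (j + 1) z).mpr ⟨hz1, ?_⟩))⟩
      refine (Place.val_le_exp_iff P).mpr ?_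
      rcases eq_or_ne z 0 with h0 | h0
      · exact Or.inl h0
      rw [Place.val_eq_exp P h0, exp_lt_exp] at hlt
      exact Or.inr (by omega)
  rw [hiff]
  have h0 := Weil.riemann_roch hK hC (Finsupp.single P (j : ℤ))
  have h1 := Weil.riemann_roch hK hC (Finsupp.single P ((j + 1 : ℕ) : ℤ))
  rw [Degree.deg_single, hP] at h0 h1
  change _ = _ + (FunFld.ell D₀ : ℤ) at h0
  change _ = _ + (FunFld.ell D₁ : ℤ) at h1
  rw [← Gaps.L_eq_iff, show ((j + 1 : ℕ) : ℤ) - 1 = j by push_cast; ring]
  have := Degree.finiteDimensional_L hK (Finsupp.single P ((j + 1 : ℕ) : ℤ))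
  have hle' : FunFld.L (Finsupp.single P (j : ℤ)) ≤ FunFld.L (Finsupp.single P ((j + 1 : ℕ) : ℤ)) :=
    Degree.L_mono (Finsupp.single_mono (by omega))
  have := Degree.finiteDimensional_L hK (Finsupp.single P (j : ℤ))
  have hstep := Degree.ell_sub_ell_le hK (D₁ := Finsupp.single P (j : ℤ))
    (D₂ := Finsupp.single P ((j + 1 : ℕ) : ℤ)) (Finsupp.single_mono (by omega))
  rw [Degree.deg_single, Degree.deg_single, hP] at hstep
  simp only [FunFld.ell] at h0 h1 hstep
  constructor
  · intro hne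
    have hlt := Submodule.finrank_lt_finrank_of_lt (lt_of_le_of_ne hle hne)
    refine (Submodule.eq_of_le_of_finrank_le hle' ?_).symm
    omega
  · intro he he'
    rw [he] at h1
    rw [he'] at h1
    omega

end Groth.Agent.Lib.FunFld.Hasse.Classical
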