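import Groth.Agent.Lib.FunFld.Hasse.Local
import Groth.Agent.Lib.FunFld.LinSys.Nonsingular

/-! Orders of differentials and the Weierstrass divisor. -/

namespace Groth.Agent.Lib.FunFld.Hasse.Diff

open Submodule WithZero
open Groth.Agent.Lib.FunFld.Hasse

universe u v
variable {k : Type u} {K : Type v} [Field k] [Field K] [Algebra k K]
variable {P : _root_.FunFld.Place k K} {ψ : K →ₐ[k] LaurentSeries k}

/-- Differentiation through an expansion. -/
theorem D_change [PerfectField k] (hK : FunFld.IsFunctionField k K) (ψ : K →ₐ[k] LaurentSeries k)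
    {s : K} {H : K →ₐ[k] PowerSeries K} (hH : LocRes.IsHasseFamily s H) (z : K) :
    LocRes.D k (ψ z) = ψ (LocRes.hasseD H 1 z) * LocRes.D k (ψ s) := by
  let _i : Algebra K (LaurentSeries k) := ψ.toRingHom.toAlgebra
  have _t : IsScalarTower k K (LaurentSeries k) := LocRes.isScalarTower_exp ψ
  let δ : Derivation k K (LaurentSeries k) := LocRes.dExp ψ -
    (LinearMap.toSpanSingleton K (LaurentSeries k) (LocRes.D k (ψ s))).compDer (Param.d1 H hH)
  have hδ : ∀ w, δ w = LocRes.D k (ψ w) - ψ (LocRes.hasseD H 1 w) * LocRes.D k (ψ s) := fun w => rfl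
  have h0 : δ = 0 := Separable.derivation_eq_zero (Param.isSep_of_family hK hH) δ (by
    rw [hδ, ← Param.d1_apply H hH, Param.d1_self, map_one, one_mul, sub_self])
  exact sub_eq_zero.mp ((hδ z).symm.trans (by rw [h0]; rfl))

theorem coeff_one_uniformizer (hψ : LocRes.IsExpansionAt P.1 ψ) {t : K} (ht : P.1 t = exp (-1)) :
    (ψ t).coeff 0 = 0 ∧ (ψ t).coeff 1 ≠ 0 := by
  obtain ⟨h1, h2⟩ := (Local.val_eq_iff hψ 1).mp ht
  exact ⟨h1 0 one_pos, h2⟩

theorem val_D_eq_one (hψ : LocRes.IsExpansionAt P.1 ψ) {z : K} (hz : P.1 z ≤ 1)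
    (h : (ψ z).coeff 1 ≠ 0) : Valued.v (LocRes.D k (ψ z)) = 1 := by
  obtain ⟨p, hp⟩ := Formula.exists_powerSeries hψ hz
  rw [← hp, LocRes.D_coe]
  refine le_antisymm ((LaurentSeries.val_le_one_iff_eq_coe k _).mpr ⟨_, rfl⟩) ?_
  by_contra hlt
  rw [not_le] at hlt
  have hle : Valued.v ((PowerSeries.derivative k p : PowerSeries k) : LaurentSeries k) ≤ exp (-(1 : ℤ)) := by
    generalize Valued.v ((PowerSeries.derivative k p : PowerSeries k) : LaurentSeries k) = x at hlt ⊢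
    rcases eq_or_ne x 0 with rfl | hx
    · simp
    · rw [← exp_log hx, ← exp_zero, exp_lt_exp] at hlt
      rw [← exp_log hx, exp_le_exp]
      omega
  have h0 := (LaurentSeries.valuation_le_iff_coeff_lt_eq_zero k).mp hle 0 one_pos
  rw [PowerSeries.coeff_coe, if_neg (lt_irrefl _), Int.natAbs_zero, PowerSeries.coeff_derivative] at h0
  apply h
  rw [← hp, PowerSeries.coeff_coe, if_neg (by norm_num : ¬ (1 : ℤ) < 0)]
  simpa using h0

theorem ordDiff_uniformizer (hψ : LocRes.IsExpansionAt P.1 ψ) {t : K} (ht : P.1 t = exp (-1)) :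
    LocRes.ordDiff ψ 1 t = 0 ∧ LocRes.D k (ψ t) ≠ 0 := by
  have h := val_D_eq_one hψ (by rw [ht, ← exp_zero, exp_le_exp]; norm_num)
    (coeff_one_uniformizer hψ ht).2
  refine ⟨?_, fun h0 => by rw [h0, map_zero] at h; exact zero_ne_one h⟩
  rw [LocRes.ordDiff, LocRes.vDiff, map_one, one_mul, h, log_one, neg_zero]

theorem D_ne_zero [IsAlgClosed k] (hK : FunFld.IsFunctionField k K)
    (hψ : LocRes.IsExpansionAt P.1 ψ) {s : K} {H : K →ₐ[k] PowerSeries K}
    (hH : LocRes.IsHasseFamily s H) : LocRes.D k (ψ s) ≠ 0 := by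
  obtain ⟨t, -, ht⟩ := Place.exists_uniformizer P
  intro h
  exact (ordDiff_uniformizer hψ ht).2 (by rw [D_change hK ψ hH t, h, mul_zero])

theorem ordDiff_change [IsAlgClosed k] (hK : FunFld.IsFunctionField k K)
    (hψ : LocRes.IsExpansionAt P.1 ψ) {s : K} {H : K →ₐ[k] PowerSeries K}
    (hH : LocRes.IsHasseFamily s H) {z : K} (hz : LocRes.hasseD H 1 z ≠ 0) :
    LocRes.ordDiff ψ 1 z = P.ord (LocRes.hasseD H 1 z) + LocRes.ordDiff ψ 1 s := by
  rw [LocRes.ordDiff, LocRes.ordDiff, LocRes.vDiff, LocRes.vDiff, map_one, one_mul, one_mul,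
    D_change hK ψ hH z, map_mul, hψ.1, log_mul ((map_ne_zero _).mpr hz)
      ((map_ne_zero _).mpr (D_ne_zero hK hψ hH)), Place.ord_def]
  ring

/-- A nonsingular normalised map has a member with nonzero linear term. -/
theorem exists_coeff_one_ne_zero [IsAlgClosed k] (hψ : LocRes.IsExpansionAt P.1 ψ) {ι : Type*}
    [Fintype ι] {φ : ι → K} (heff : (1 : K) ∈ span k (Set.range φ)) (hint : ∀ i, P.1 (φ i) ≤ 1)
    (hns : FunFld.IsNonsingularAt φ P) : ∃ i, (ψ (φ i)).coeff 1 ≠ 0 := by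
  by_contra hcon
  push Not at hcon
  obtain ⟨t, -, ht⟩ := Place.exists_uniformizer P
  have ht1 : P.1 t ≤ 1 := by rw [ht, ← exp_zero, exp_le_exp]; norm_num
  obtain ⟨j, hj0, hmax, u, hu, w, hw, hw1, huw⟩ := hns t ht1
  have hj1 : P.1 (φ j) = 1 := by
    refine le_antisymm (hint j) ?_
    obtain ⟨a, ha⟩ := (mem_span_range_iff_exists_fun k).mp heff
    refine (map_one P.1).ge.trans ?_
    rw [← ha]
    refine P.1.map_sum_le fun i _ => ?_
    rw [Algebra.smul_def, map_mul]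
    exact (mul_le_mul' (P.2.1 _) (hmax i)).trans_eq (one_mul _)
  have hmul : ∀ p q : PowerSeries k, PowerSeries.coeff 1 p = 0 → PowerSeries.coeff 1 q = 0 →
      PowerSeries.coeff 1 (p * q) = 0 := fun p q hp hq => by
    rw [PowerSeries.coeff_one_mul, hp, hq]; simp
  have hps : ∀ i, ∃ p : PowerSeries k, (p : LaurentSeries k) = ψ (φ i) ∧ PowerSeries.coeff 1 p = 0 :=
    fun i => by
      obtain ⟨p, hp⟩ := Formula.exists_powerSeries hψ (hint i)
      refine ⟨p, hp, ?_⟩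
      have := hcon i
      rwa [← hp, PowerSeries.coeff_coe, if_neg (by norm_num)] at this
  have hgood : ∀ z ∈ Algebra.adjoin k (Set.range fun i => φ i / φ j),
      ∃ p : PowerSeries k, (p : LaurentSeries k) = ψ z ∧ PowerSeries.coeff 1 p = 0 := by
    intro z hz
    induction hz using Algebra.adjoin_induction with
    | mem y hy =>
      obtain ⟨i, rfl⟩ := hy
      obtain ⟨p, hp, hp1⟩ := hps i
      obtain ⟨q, hq, hq1⟩ := hps j
      have hq0 : PowerSeries.constantCoeff q ≠ 0 := fun h => by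
        have := ((Local.val_eq_iff hψ 0).mp (by simpa using hj1)).2
        rw [← hq, PowerSeries.coeff_coe, if_neg (lt_irrefl _), Int.natAbs_zero,
          PowerSeries.coeff_zero_eq_constantCoeff_apply] at this
        exact this h
      obtain ⟨v, hv⟩ := PowerSeries.isUnit_iff_constantCoeff.mpr hq0.isUnit
      have hv1 : PowerSeries.coeff 1 (↑v⁻¹ : PowerSeries k) = 0 := by
        have h1 := congrArg (PowerSeries.coeff 1) v.mul_inv
        rw [PowerSeries.coeff_one_mul, hv, hq1, PowerSeries.coeff_one, if_neg one_ne_zero] at h1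
        simpa [hq0] using h1
      refine ⟨p * ↑v⁻¹, ?_, hmul _ _ hp1 hv1⟩
      rw [map_div₀, eq_div_iff ((map_ne_zero ψ).mpr hj0), PowerSeries.coe_mul, hp, mul_assoc, ← hq,
        ← hv, ← PowerSeries.coe_mul, v.inv_mul, PowerSeries.coe_one, mul_one]
    | algebraMap c =>
      exact ⟨PowerSeries.C c, by rw [LocRes.map_algebraMap, HahnSeries.ofPowerSeries_C]; rfl,
        by simp⟩
    | add y z _ _ hy hz =>
      obtain ⟨p, hp, hp1⟩ := hy
      obtain ⟨q, hq, hq1⟩ := hz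
      exact ⟨p + q, by rw [PowerSeries.coe_add, hp, hq, map_add], by rw [map_add, hp1, hq1, add_zero]⟩
    | mul y z _ _ hy hz =>
      obtain ⟨p, hp, hp1⟩ := hy
      obtain ⟨q, hq, hq1⟩ := hz
      exact ⟨p * q, by rw [PowerSeries.coe_mul, hp, hq, map_mul], hmul _ _ hp1 hq1⟩
  obtain ⟨p, hp, hp1⟩ := hgood u hu
  obtain ⟨q, hq, -⟩ := hgood w hw
  obtain ⟨T, hT⟩ := Formula.exists_powerSeries hψ ht1
  obtain ⟨hT0, hT1⟩ := coeff_one_uniformizer hψ ht
  have hw0 := ((Local.val_eq_iff hψ 0).mp (by simpa using hw1)).2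
  rw [← hT, PowerSeries.coeff_coe, if_neg (lt_irrefl _), Int.natAbs_zero,
    PowerSeries.coeff_zero_eq_constantCoeff_apply] at hT0
  rw [← hT, PowerSeries.coeff_coe, if_neg (by norm_num)] at hT1
  rw [← hq, PowerSeries.coeff_coe, if_neg (lt_irrefl _), Int.natAbs_zero,
    PowerSeries.coeff_zero_eq_constantCoeff_apply] at hw0
  have h1 : T * q = p := HahnSeries.ofPowerSeries_injective (Γ := ℤ) (R := k) (by
    rw [PowerSeries.coe_mul, hT, hq, hp, ← map_mul, huw])
  rw [← h1, PowerSeries.coeff_one_mul, hT0, mul_zero, add_zero] at hp1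
  exact (mul_ne_zero hT1 hw0) hp1

theorem adjoin_ratios_eq_top {ι : Type*} {φ : ι → K} {i₀ : ι}
    (h : IntermediateField.adjoin k (Set.range fun i => φ i / φ i₀) = ⊤) {j : ι} (hj : φ j ≠ 0) :
    IntermediateField.adjoin k (Set.range fun i => φ i / φ j) = ⊤ := by
  refine eq_top_iff.mpr (h ▸ IntermediateField.adjoin_le_iff.mpr ?_)
  rintro _ ⟨i, rfl⟩
  change φ i / φ i₀ ∈ IntermediateField.adjoin k (Set.range fun i => φ i / φ j)
  rw [show φ i / φ i₀ = (φ i / φ j) / (φ i₀ / φ j) by rw [div_div_div_cancel_right₀ hj]]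
  exact div_mem (IntermediateField.subset_adjoin _ _ ⟨i, rfl⟩)
    (IntermediateField.subset_adjoin _ _ ⟨i₀, rfl⟩)

/-- The differential of a separating element has finitely many zeros and poles. -/
theorem finite_ordDiff [IsAlgClosed k] (hK : FunFld.IsFunctionField k K)
    (Φ : _root_.FunFld.Place k K → (K →ₐ[k] LaurentSeries k))
    (hΦ : ∀ P : _root_.FunFld.Place k K, LocRes.IsExpansionAt P.1 (Φ P)) {s : K}
    {H : K →ₐ[k] PowerSeries K} (hH : LocRes.IsHasseFamily s H) :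
    (Function.support fun P : _root_.FunFld.Place k K => LocRes.ordDiff (Φ P) 1 s).Finite := by
  have hs : Transcendental k s := by
    intro halg
    obtain ⟨c, rfl⟩ := hK.2 s halg
    have := hH.1
    rw [H.commutes, PowerSeries.algebraMap_apply, left_eq_add] at this
    exact PowerSeries.X_ne_zero this
  have hsep : Algebra.IsSeparable (IntermediateField.adjoin k ({s} : Set K)) K :=
    Param.isSep_of_family hK hH
  have := Bound.finiteDimensional_adjoin_transcendental hK hs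
  obtain ⟨y, hy⟩ := Field.exists_primitive_element (IntermediateField.adjoin k ({s} : Set K)) K
  let φ : Fin 3 → K := ![1, s, y]
  have hgen : IntermediateField.adjoin k ({s, y} : Set K) = ⊤ := by
    rw [← IntermediateField.adjoin_simple_adjoin_simple, hy, IntermediateField.restrictScalars_top]
  have htop : IntermediateField.adjoin k (Set.range fun i => φ i / φ 0) = ⊤ := by
    refine eq_top_iff.mpr (hgen ▸ IntermediateField.adjoin.mono k _ _ ?_)
    rintro z (rfl | rfl)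
    exacts [⟨1, by simp [φ]⟩, ⟨2, by simp [φ]⟩]
  have hfin := LinSys.Nonsingular.finite_singular hK (φ := φ) ⟨0, by simp [φ]⟩
    fun j hj => adjoin_ratios_eq_top htop hj
  refine ((hfin.union ((Degree.finite_support_ord hK s).union ((Degree.finite_support_ord hK y).union
    (Degree.finite_support_ord hK (LocRes.hasseD H 1 y)))))).subset fun P hP => ?_
  by_contra hcon
  simp only [Set.mem_union, Set.mem_ofPred_eq, Function.mem_support, not_or, not_not] at hcon
  obtain ⟨hns, hs0, hy0, hdy⟩ := hcon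
  have hs1 : P.1 s ≤ 1 := (Place.val_le_one_iff P).mpr hs0.ge
  have hy1 : P.1 y ≤ 1 := (Place.val_le_one_iff P).mpr hy0.ge
  have hdy1 : P.1 (LocRes.hasseD H 1 y) ≤ 1 := (Place.val_le_one_iff P).mpr hdy.ge
  refine hP ?_
  change LocRes.ordDiff (Φ P) 1 s = 0
  obtain ⟨i, hi⟩ := exists_coeff_one_ne_zero (hΦ P) (φ := φ)
    (subset_span ⟨0, by simp [φ]⟩) (fun i => by fin_cases i <;> simp [φ, hs1, hy1]) hns
  suffices h1 : ((Φ P) s).coeff 1 ≠ 0 by
    rw [LocRes.ordDiff, LocRes.vDiff, map_one, one_mul, val_D_eq_one (hΦ P) hs1 h1, log_one, neg_zero]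
  intro h1
  fin_cases i
  · exact hi (by simp [φ])
  · exact hi (by simpa [φ] using h1)
  · refine hi ?_
    have h2 := congrArg (fun x : LaurentSeries k => x.coeff 0) (D_change hK (Φ P) hH y)
    obtain ⟨p, hp⟩ := Formula.exists_powerSeries (hΦ P) hy1
    obtain ⟨d, hd⟩ := Formula.exists_powerSeries (hΦ P) hdy1
    obtain ⟨q, hq⟩ := Formula.exists_powerSeries (hΦ P) hs1
    rw [← hp, ← hd, ← hq, LocRes.D_coe, LocRes.D_coe, ← PowerSeries.coe_mul] at h2
    simp only [PowerSeries.coeff_coe, lt_irrefl, if_false, Int.natAbs_zero, PowerSeries.coeff_mul,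
      Finset.Nat.antidiagonal_zero, Finset.sum_singleton, PowerSeries.coeff_derivative] at h2
    rw [← hq, PowerSeries.coeff_coe, if_neg (by norm_num)] at h1
    simp only [φ, Fin.reduceFinMk, Matrix.cons_val]
    rw [← hp, PowerSeries.coeff_coe, if_neg (by norm_num)]
    simp only [Int.natAbs_one] at h1 ⊢
    simpa [h1] using h2

variable {n : ℕ}

theorem divDiff_apply [IsAlgClosed k] (hK : FunFld.IsFunctionField k K)
    (Φ : _root_.FunFld.Place k K → (K →ₐ[k] LaurentSeries k))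
    (hΦ : ∀ P : _root_.FunFld.Place k K, LocRes.IsExpansionAt P.1 (Φ P)) {s : K}
    {H : K →ₐ[k] PowerSeries K} (hH : LocRes.IsHasseFamily s H) (P : _root_.FunFld.Place k K) :
    FunFld.divDiff Φ 1 s P = LocRes.ordDiff (Φ P) 1 s := by
  rw [FunFld.divDiff, dif_pos (finite_ordDiff hK Φ hΦ hH)]
  rfl

theorem wDiv_apply [IsAlgClosed k] (hK : FunFld.IsFunctionField k K) (τ : K →ₐ[k] K)
    (Φ : _root_.FunFld.Place k K → (K →ₐ[k] LaurentSeries k))
    (hΦ : ∀ P : _root_.FunFld.Place k K, LocRes.IsExpansionAt P.1 (Φ P)) {s : K}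
    {H : K →ₐ[k] PowerSeries K} (hH : LocRes.IsHasseFamily s H) (φ : Fin (n + 1) → K)
    (J : Fin n → ℕ) (P : _root_.FunFld.Place k K) :
    FunFld.wDiv τ H Φ s φ J P = P.ord (FunFld.wrMat τ H φ J).det + FunFld.mapDiv k (τ ∘ φ) P +
      (n : ℤ) * FunFld.mapDiv k φ P + (∑ l, (J l : ℤ)) * LocRes.ordDiff (Φ P) 1 s := by
  simp only [FunFld.wDiv, Finsupp.add_apply, Finsupp.smul_apply, smul_eq_mul,
    Degree.div_apply hK, divDiff_apply hK Φ hΦ hH]

theorem exp_mapDiv (hK : FunFld.IsFunctionField k K) {ι : Type*} [Fintype ι] [Nonempty ι]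
    {φ : ι → K} (hφ : ∀ i, φ i ≠ 0) (P : _root_.FunFld.Place k K) :
    (∀ i, P.1 (φ i) ≤ exp (FunFld.mapDiv k φ P)) ∧ ∃ i, P.1 (φ i) = exp (FunFld.mapDiv k φ P) := by
  rw [MapDiv.mapDiv_apply hK.1]
  obtain ⟨i, -, hi⟩ := Finset.exists_mem_eq_inf' (Finset.univ_nonempty (α := ι)) fun i => P.ord (φ i)
  refine ⟨fun j => ?_, i, ?_⟩
  · rw [Place.val_eq_exp P (hφ j), exp_le_exp, neg_le_neg_iff]
    exact Finset.inf'_le _ (Finset.mem_univ j)
  · rw [hi, Place.val_eq_exp P (hφ i)]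

theorem mapDiv_eq_of_max (hK : FunFld.IsFunctionField k K) {ι : Type*} [Fintype ι] [Nonempty ι]
    {φ : ι → K} (hφ : ∀ i, φ i ≠ 0) {P : _root_.FunFld.Place k K} {d : ℤ}
    (hle : ∀ i, P.1 (φ i) ≤ exp d) (hex : ∃ i, P.1 (φ i) = exp d) : FunFld.mapDiv k φ P = d := by
  obtain ⟨h1, i, h2⟩ := exp_mapDiv hK hφ P
  obtain ⟨j, hj⟩ := hex
  exact le_antisymm (exp_le_exp.mp (h2 ▸ hle i)) (exp_le_exp.mp (hj ▸ h1 j))

theorem mapDiv_smul (hK : FunFld.IsFunctionField k K) {ι : Type*} [Fintype ι] [Nonempty ι]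
    {φ : ι → K} (hφ : ∀ i, φ i ≠ 0) {y : K} (hy : y ≠ 0) (P : _root_.FunFld.Place k K) :
    FunFld.mapDiv k (y • φ) P = FunFld.mapDiv k φ P - P.ord y := by
  obtain ⟨h1, i, h2⟩ := exp_mapDiv hK hφ P
  refine mapDiv_eq_of_max hK (fun j => mul_ne_zero hy (hφ j)) (fun j => ?_) ⟨i, ?_⟩ <;>
    rw [sub_eq_add_neg, exp_add, ← Place.val_eq_exp P hy]
  on_goal 1 => change P.1 (y * φ j) ≤ _
  on_goal 2 => change P.1 (y * φ i) = _
  all_goals rw [map_mul, mul_comm]
  · exact mul_le_mul_left (h1 j) _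
  · rw [h2]

theorem val_le_of_mem_span {ι : Type*} [Fintype ι] {φ : ι → K} {P : _root_.FunFld.Place k K}
    {b : WithZero (Multiplicative ℤ)} (h : ∀ i, P.1 (φ i) ≤ b) {z : K}
    (hz : z ∈ span k (Set.range φ)) : P.1 z ≤ b := by
  obtain ⟨a, rfl⟩ := (mem_span_range_iff_exists_fun k).mp hz
  refine P.1.map_sum_le fun i _ => ?_
  rw [Algebra.smul_def, map_mul]
  exact (mul_le_mul' (P.2.1 _) (h i)).trans_eq (one_mul _)

theorem mapDiv_span (hK : FunFld.IsFunctionField k K) {ι : Type*} [Fintype ι] [Nonempty ι]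
    {φ φ' : ι → K} (hφ : ∀ i, φ i ≠ 0) (hφ' : ∀ i, φ' i ≠ 0)
    (h : ∀ i, φ' i ∈ span k (Set.range φ)) (h' : ∀ i, φ i ∈ span k (Set.range φ'))
    (P : _root_.FunFld.Place k K) : FunFld.mapDiv k φ' P = FunFld.mapDiv k φ P := by
  obtain ⟨h1, i, h2⟩ := exp_mapDiv hK hφ P
  obtain ⟨h1', j, h2'⟩ := exp_mapDiv hK hφ' P
  exact le_antisymm (exp_le_exp.mp (h2' ▸ val_le_of_mem_span h1 (h j)))
    (exp_le_exp.mp (h2 ▸ val_le_of_mem_span h1' (h' i)))

theorem mapDiv_normalized (hK : FunFld.IsFunctionField k K) {ι : Type*} [Fintype ι] [Nonempty ι]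
    {φ : ι → K} (hφ : ∀ i, φ i ≠ 0) {P : _root_.FunFld.Place k K} (hint : ∀ i, P.1 (φ i) ≤ 1)
    (heff : (1 : K) ∈ span k (Set.range φ)) : FunFld.mapDiv k φ P = 0 := by
  refine mapDiv_eq_of_max hK hφ (fun i => by rw [exp_zero]; exact hint i) ?_
  obtain ⟨i, -, hi⟩ := Finset.exists_max_image Finset.univ (fun i => P.1 (φ i)) Finset.univ_nonempty
  refine ⟨i, le_antisymm ((hint i).trans_eq exp_zero.symm) ?_⟩
  rw [exp_zero]
  exact (map_one P.1).ge.trans (val_le_of_mem_span (fun j => hi j (Finset.mem_univ j)) heff)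

theorem isOrders_linear (τ : K →ₐ[k] K) (φ : Fin (n + 1) → K)
    {A : Matrix (Fin (n + 1)) (Fin (n + 1)) k} (hA : A.det ≠ 0) (H : K →ₐ[k] PowerSeries K)
    {φ' : Fin (n + 1) → K} (hφ' : ∀ i, φ' i = ∑ j, A i j • φ j) (J : Fin n → ℕ) :
    FunFld.IsOrders K (FunFld.hcol τ H φ') J ↔ FunFld.IsOrders K (FunFld.hcol τ H φ) J := by
  have hinj : Function.Injective (A.map (algebraMap k K)).mulVecLin :=
    Matrix.mulVec_injective_iff_isUnit.mpr ((Matrix.isUnit_iff_isUnit_det _).mpr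
      (isUnit_iff_ne_zero.mpr (by
        rw [← RingHom.mapMatrix_apply, ← RingHom.map_det]; exact (map_ne_zero _).mpr hA)))
  refine Jumps.isOrders_congr (fun j => ?_) J
  simp only [FunFld.IsJump, Param.hcol_linear τ φ A H φ' hφ']
  refine not_congr ?_
  rw [← Set.image_image (A.map (algebraMap k K)).mulVecLin (FunFld.hcol τ H φ),
    Submodule.span_image, Submodule.mem_map]
  exact ⟨fun ⟨v, hv, hvc⟩ => hinj hvc ▸ hv, fun h => ⟨_, h, rfl⟩⟩

theorem linearIndependent_linear (φ : Fin (n + 1) → K) (hφ : LinearIndependent k φ)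
    {A : Matrix (Fin (n + 1)) (Fin (n + 1)) k} (hA : A.det ≠ 0)
    {φ' : Fin (n + 1) → K} (hφ' : ∀ i, φ' i = ∑ j, A i j • φ j) :
    LinearIndependent k φ' ∧ ∀ i, φ i ∈ span k (Set.range φ') := by
  have hinv : ∀ i, φ i = ∑ j, A⁻¹ i j • φ' j := fun i => by
    simp only [hφ', Finset.smul_sum, smul_smul]
    rw [Finset.sum_comm]
    simp only [← Finset.sum_smul]
    have h1 : A⁻¹ * A = 1 := Matrix.nonsing_inv_mul A hA.isUnit
    have h2 : ∀ j, ∑ x, A⁻¹ i x * A x j = if i = j then 1 else 0 := fun j => by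
      rw [← Matrix.mul_apply, h1, Matrix.one_apply]
    simp [h2]
  refine ⟨?_, fun i => hinv i ▸ sum_mem fun j _ => smul_mem _ _ (subset_span ⟨j, rfl⟩)⟩
  rw [Fintype.linearIndependent_iff]
  intro g hg i
  have h3 := Fintype.linearIndependent_iff.mp hφ (Matrix.vecMul g A) (by
    simp only [hφ', Finset.smul_sum, smul_smul] at hg
    rw [Finset.sum_comm] at hg
    simp only [← Finset.sum_smul] at hg
    exact hg)
  by_contra hne
  exact hA (Matrix.exists_vecMul_eq_zero_iff.mp ⟨g, fun h => hne (congrFun h i), funext h3⟩)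

/-- Invariance of the Weierstrass divisor. -/
theorem wDiv_invariant [IsAlgClosed k] (hK : FunFld.IsFunctionField k K) {φ : Fin (n + 1) → K}
    (hφ : LinearIndependent k φ) (τ : K →ₐ[k] K) {s : K} {Hs : K →ₐ[k] PowerSeries K}
    (hHs : LocRes.IsHasseFamily s Hs) {t : K} {Ht : K →ₐ[k] PowerSeries K}
    (hHt : LocRes.IsHasseFamily t Ht) {J : Fin n → ℕ}
    (hJ : FunFld.IsOrders K (FunFld.hcol τ Hs φ) J)
    {A : Matrix (Fin (n + 1)) (Fin (n + 1)) k} (hA : A.det ≠ 0) {y : K} (hy : y ≠ 0)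
    {φ' : Fin (n + 1) → K} (hφ' : ∀ i, φ' i = y * ∑ j, A i j • φ j)
    (Φ : _root_.FunFld.Place k K → (K →ₐ[k] LaurentSeries k))
    (hΦ : ∀ P : _root_.FunFld.Place k K, LocRes.IsExpansionAt P.1 (Φ P)) :
    FunFld.IsOrders K (FunFld.hcol τ Ht φ') J ∧
      FunFld.wDiv τ Ht Φ t φ' J = FunFld.wDiv τ Hs Φ s φ J := by
  let φ₂ : Fin (n + 1) → K := fun i => ∑ j, A i j • φ j
  have hφ'₂ : φ' = y • φ₂ := funext fun i => by rw [hφ', Pi.smul_apply, smul_eq_mul]
  obtain ⟨hli, hback⟩ := linearIndependent_linear φ hφ hA (φ' := φ₂) fun i => rfl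
  have hne : ∀ i, φ i ≠ 0 := fun i => hφ.ne_zero i
  have hne₂ : ∀ i, φ₂ i ≠ 0 := fun i => hli.ne_zero i
  have h0 := Param.hcol_zero_ne_zero τ φ ⟨0, hne 0⟩ Hs
  have ha := Param.d1_ne_zero hK hHs hHt
  have hJt : FunFld.IsOrders K (FunFld.hcol τ Ht φ) J :=
    (Jumps.isOrders_congr (Jumps.isJump_congr (Jumps.sp_eq_of_triangular
      (Param.mult_ne_zero ha) (Param.hcol_change τ φ hK hHs hHt))) J).mpr hJ
  have hJ₂ : FunFld.IsOrders K (FunFld.hcol τ Ht φ₂) J :=
    (isOrders_linear τ φ hA Ht (φ' := φ₂) (fun i => rfl) J).mpr hJt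
  have hτy : τ y ≠ 0 := (map_ne_zero τ).mpr hy
  have h02 := Param.hcol_zero_ne_zero τ φ₂ ⟨0, hne₂ 0⟩ Ht
  refine ⟨?_, ?_⟩
  · rw [hφ'₂]
    exact (Jumps.isOrders_congr (Jumps.isJump_congr (Jumps.sp_eq_of_triangular
      (Param.mult'_ne_zero hτy hy) (Param.hcol_smul τ φ₂ hHt y))) J).mpr hJ₂
  have hdet : (FunFld.wrMat τ Ht φ' J).det =
      τ y * y ^ n * (algebraMap k K A.det * (LocRes.hasseD Ht 1 s ^ (∑ l, J l) *
        (FunFld.wrMat τ Hs φ J).det)) := by
    rw [hφ'₂, Jumps.wrMat_det, Jumps.det_sel_of_triangular h02 hJ₂ (Param.hcol_smul τ φ₂ hHt y),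
      ← Jumps.wrMat_det, Local.det_linear φ (φ' := φ₂) (fun i => rfl), Jumps.wrMat_det τ Ht φ,
      Jumps.det_sel_of_triangular h0 hJ (Param.hcol_change τ φ hK hHs hHt), ← Jumps.wrMat_det]
    simp [Param.mult, Param.mult', Finset.prod_pow_eq_pow_sum]
  ext P
  rw [wDiv_apply hK τ Φ hΦ hHt, wDiv_apply hK τ Φ hΦ hHs]
  have hd := Param.det_ne_zero τ φ ⟨0, hne 0⟩ hJ
  have hAK : algebraMap k K A.det ≠ 0 := (map_ne_zero _).mpr hA
  rw [hdet, Place.ord_mul P (mul_ne_zero hτy (pow_ne_zero _ hy))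
      (mul_ne_zero hAK (mul_ne_zero (pow_ne_zero _ ha) hd)),
    Place.ord_mul P hτy (pow_ne_zero _ hy), Place.ord_mul P hAK (mul_ne_zero (pow_ne_zero _ ha) hd),
    Place.ord_mul P (pow_ne_zero _ ha) hd, Place.ord_pow, Place.ord_pow, Place.ord_algebraMap,
    ordDiff_change hK (hΦ P) hHt ha]
  have h₂mem : ∀ i, φ₂ i ∈ span k (Set.range φ) := fun i =>
    sum_mem fun j _ => smul_mem _ _ (subset_span ⟨j, rfl⟩)
  have hm1 : FunFld.mapDiv k φ' P = FunFld.mapDiv k φ P - P.ord y := by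
    rw [hφ'₂, mapDiv_smul hK hne₂ hy, mapDiv_span hK hne hne₂ h₂mem hback]
  have hm2 : FunFld.mapDiv k (τ ∘ φ') P = FunFld.mapDiv k (τ ∘ φ) P - P.ord (τ y) := by
    have hτmem : ∀ (f g : Fin (n + 1) → K) i, f i ∈ span k (Set.range g) →
        τ (f i) ∈ span k (Set.range (τ ∘ g)) := fun f g i h => by
      rw [Set.range_comp]
      exact (span_image τ.toLinearMap).ge (mem_map_of_mem (f := τ.toLinearMap) h)
    rw [hφ'₂, show τ ∘ (y • φ₂) = τ y • (τ ∘ φ₂) from funext fun i => map_mul τ y _,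
      mapDiv_smul hK (φ := τ ∘ φ₂) (fun i => (map_ne_zero τ).mpr (hne₂ i)) hτy,
      mapDiv_span hK (φ := τ ∘ φ) (φ' := τ ∘ φ₂) (fun i => (map_ne_zero τ).mpr (hne i))
        (fun i => (map_ne_zero τ).mpr (hne₂ i)) (fun i => hτmem _ _ i (h₂mem i))
        (fun i => hτmem _ _ i (hback i))]
  rw [hm1, hm2]
  push_cast
  ring

theorem exists_orders_at [IsAlgClosed k] (hK : FunFld.IsFunctionField k K) {φ : Fin (n + 1) → K}
    (hφ : LinearIndependent k φ) (heff : (1 : K) ∈ span k (Set.range φ))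
    {P : _root_.FunFld.Place k K} (hint : ∀ i, P.1 (φ i) ≤ 1) {t : K} (ht : P.1 t = exp (-1))
    {H : K →ₐ[k] PowerSeries K} (hH : LocRes.IsHasseFamily t H) :
    ∃ J : Fin n → ℕ,
      FunFld.IsOrders (IsLocalRing.ResidueField P.O) (FunFld.hcolAt P H φ) J := by
  have hV := Param.linearIndependent_values hK P hφ hint ht hH
  refine Jumps.exists_orders (Module.finrank_fin_fun _) ?_ ?_
  · obtain ⟨a, ha⟩ := (mem_span_range_iff_exists_fun k).mp heff
    intro h
    have hz : ∀ i, P.1 (φ i) < 1 := fun i => by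
      have h1 : FunFld.evalP P (φ i) = 0 := congrFun h i
      rw [FunFld.evalP, dif_pos (hint i), Place.res_eq_zero_iff] at h1
      exact h1
    obtain ⟨i, -, hi⟩ := Finset.exists_max_image Finset.univ (fun i => P.1 (φ i)) Finset.univ_nonempty
    exact absurd ((map_one P.1).ge.trans
      (val_le_of_mem_span (fun j => hi j (Finset.mem_univ j)) heff)) (not_le.mpr (hz i))
  · by_contra hne
    obtain ⟨f, hf0, hf⟩ := Submodule.exists_le_ker_of_lt_top _ (lt_top_iff_ne_top.mpr hne)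
    refine hf0 (LinearMap.ext fun v => ?_)
    have hfv : ∀ w, f w = ∑ i, f (Pi.single i 1) * w i := fun w => by
      conv_lhs => rw [pi_eq_sum_univ' w]
      simp [mul_comm, map_sum]
    have h0 := Fintype.linearIndependent_iff.mp hV (fun i => f (Pi.single i 1)) (funext fun j => by
      have := hf (subset_span ⟨j + 1, rfl⟩)
      rw [LinearMap.mem_ker, hfv] at this
      simpa [FunFld.hcolAt] using this)
    rw [hfv, LinearMap.zero_apply]
    exact Finset.sum_eq_zero fun i _ => by rw [h0 i, zero_mul]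

/-- The divisor at a normalised fixed place. -/
theorem wDiv_fixed [IsAlgClosed k] (hK : FunFld.IsFunctionField k K) {τ : K →ₐ[k] K}
    {P : _root_.FunFld.Place k K} (hP : FunFld.IsFixedPt τ P) {φ : Fin (n + 1) → K}
    (hφ : LinearIndependent k φ) (heff : (1 : K) ∈ span k (Set.range φ))
    (hint : ∀ i, P.1 (φ i) ≤ 1) {t : K} (ht : P.1 t = exp (-1)) {H : K →ₐ[k] PowerSeries K}
    (hH : LocRes.IsHasseFamily t H)
    (Φ : _root_.FunFld.Place k K → (K →ₐ[k] LaurentSeries k))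
    (hΦ : ∀ P : _root_.FunFld.Place k K, LocRes.IsExpansionAt P.1 (Φ P)) (J : Fin n → ℕ) :
    FunFld.wDiv τ H Φ t φ J P = P.ord (FunFld.wrMat τ H φ J).det := by
  rw [wDiv_apply hK τ Φ hΦ hH, (ordDiff_uniformizer (hΦ P) ht).1,
    mapDiv_normalized hK (fun i => hφ.ne_zero i) hint heff,
    mapDiv_normalized hK (φ := τ ∘ φ) (fun i => (map_ne_zero τ).mpr (hφ.ne_zero i))
      (fun i => Local.val_map_le_one hK hP (hint i))]
  · ring
  · rw [Set.range_comp]
    have := (span_image τ.toLinearMap).ge (mem_map_of_mem (f := τ.toLinearMap) heff)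
    rwa [show τ.toLinearMap 1 = 1 from map_one τ] at this

end Groth.Agent.Lib.FunFld.Hasse.Diff
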