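import Groth.Agent.Lib.FunFld.Hasse.Classical

/-! In characteristic zero a linear system has finitely many ramification points. -/

namespace Groth.Agent.Lib.FunFld.Hasse.Ramified

open WithZero Submodule
open Groth.Agent.Lib.FunFld Groth.Agent.Lib.FunFld.Hasse

universe u v
variable {k : Type u} {K : Type v} [Field k] [IsAlgClosed k] [CharZero k] [Field K] [Algebra k K]

/-- Outside a finite set no two members of a system of dimension `n + 1` have orders differing by
more than `n`. -/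
theorem finite_ramified (hK : FunFld.IsFunctionField k K) {n : ℕ} {φ : Fin (n + 1) → K}
    (hφ : LinearIndependent k φ) :
    {Q : _root_.FunFld.Place k K | ∃ f ∈ span k (Set.range φ), ∃ g ∈ span k (Set.range φ),
      f ≠ 0 ∧ g ≠ 0 ∧ Q.ord g + ((n : ℤ) + 1) ≤ Q.ord f}.Finite := by
  classical
  obtain ⟨x₀, hx₀⟩ := Riemann.exists_transcendental hK
  obtain ⟨P₀, -⟩ := Existence.exists_zero hK hx₀
  obtain ⟨s, ψ₀, H, -, -, -, hH⟩ := Wdiv.exists_local hK P₀
  obtain ⟨Φ, hΦ⟩ := Wdiv.exists_expansions hK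
  have hchar : ringChar k = 0 := ringChar.eq_zero
  have hJ : FunFld.IsOrders K (FunFld.hcol (AlgHom.id k K) H φ) fun l : Fin n => (l : ℕ) + 1 :=
    Classical.orders_eq hK hφ (Or.inl hchar) (P := P₀) (Or.inl ⟨rfl, rfl⟩) hH
  set J : Fin n → ℕ := fun l => (l : ℕ) + 1 with hJdef
  refine (FunFld.wDiv (AlgHom.id k K) H Φ s φ J).hasFiniteSupport.subset ?_
  rintro P ⟨f, hf, g, hg, hf0, hg0, hfg⟩
  change FunFld.wDiv (AlgHom.id k K) H Φ s φ J P ≠ 0
  obtain ⟨y, hy, hli, hint, heff⟩ := Wdiv.exists_normalized P φ hφ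
  obtain ⟨t, ψ, Ht, ht, hψ, hψt, hHt⟩ := Wdiv.exists_local hK P
  obtain ⟨hJt, hW⟩ := Diff.wDiv_invariant hK hφ (AlgHom.id k K) hH hHt hJ (A := 1)
    (by rw [Matrix.det_one]; exact one_ne_zero) hy (φ' := fun i => y * φ i)
    (fun i => by simp [Matrix.one_apply, ite_smul]) Φ hΦ
  rw [← hW]
  set φ' : Fin (n + 1) → K := fun i => y * φ i
  obtain ⟨J', hJ'⟩ := Diff.exists_orders_at hK hli heff hint ht hHt
  -- members of the normalised system are integral at `P`
  have hspan : ∀ z ∈ span k (Set.range φ), y * z ∈ span k (Set.range φ') ∧ P.1 (y * z) ≤ 1 := by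
    intro z hz
    have hmem : y * z ∈ span k (Set.range φ') := by
      have := Submodule.apply_mem_span_image_of_mem_span (LinearMap.mulLeft k y) hz
      rw [← Set.range_comp] at this
      exact this
    refine ⟨hmem, ?_⟩
    obtain ⟨a, ha⟩ := (mem_span_range_iff_exists_fun k).mp hmem
    rw [← ha]
    refine P.1.map_sum_le fun i _ => ?_
    rw [Algebra.smul_def, map_mul]
    exact (mul_le_mul' (P.2.1 _) (hint i)).trans_eq (one_mul _)
  have hyg := (Place.val_le_one_iff P).mp (hspan g hg).2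
  rw [Place.ord_mul P hy hg0] at hyg
  have hord : (n : ℤ) + 1 ≤ P.ord (y * f) := by rw [Place.ord_mul P hy hf0]; omega
  obtain ⟨j, hj⟩ : ∃ j : ℕ, P.ord (y * f) = j := ⟨(P.ord (y * f)).toNat, by omega⟩
  have hmem : j ∈ Set.range J' := by
    refine (hJ'.2 j).mpr ((Local.isJump_hcolAt_iff φ' hK hψ hψt hHt hint j).mpr
      ⟨by omega, y * f, (hspan f hf).1, ?_⟩)
    rw [Place.val_eq_exp P (mul_ne_zero hy hf0), hj]
  obtain ⟨l₀, hl₀⟩ := hmem
  have hpos : ∀ l, 1 ≤ J' l := fun l =>
    ((Local.isJump_hcolAt_iff φ' hK hψ hψt hHt hint (J' l)).mp ((hJ'.2 _).mp ⟨l, rfl⟩)).1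
  have hfix : FunFld.IsFixedPt (AlgHom.id k K) P := fun z hz => hz
  have hdet := Param.det_ne_zero (AlgHom.id k K) φ' ⟨0, hli.ne_zero 0⟩ hJt
  have hle := (Local.val_det φ' hK hfix hψ hψt ht hHt hli heff hint hJ' J).1
  rw [Place.val_eq_exp P hdet, exp_le_exp] at hle
  rw [Diff.wDiv_fixed hK hfix hli heff hint ht hHt Φ hΦ]
  have hsum : 0 < ∑ l, ((J' l : ℤ) - J l) := by
    refine Finset.sum_pos' (fun l _ => ?_) ⟨l₀, Finset.mem_univ _, ?_⟩
    · have := Classical.strictMono_add_le hJ'.1 hpos l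
      simp only [hJdef]; omega
    · have := l₀.2
      simp only [hJdef]; omega
  omega

/-- Only finitely many places have `m Q ~ m P`. -/
theorem finite_torsion (hK : FunFld.IsFunctionField k K) (hg : _root_.FunFld.genus k K = 1)
    (P : _root_.FunFld.Place k K) {m : ℕ} (hm : 0 < m) :
    {Q : _root_.FunFld.Place k K | Q ≠ P ∧ ∃ x : K, x ≠ 0 ∧
      Finsupp.single Q (m : ℤ) = Finsupp.single P (m : ℤ) + _root_.FunFld.div k x}.Finite := by
  classical
  obtain ⟨n, rfl⟩ : ∃ n, m = n + 1 := ⟨m - 1, by omega⟩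
  obtain ⟨W, hW⟩ : ∃ W, W = _root_.FunFld.L (Finsupp.single P ((n + 1 : ℕ) : ℤ)) := ⟨_, rfl⟩
  have : FiniteDimensional k ↥W := hW ▸ Degree.finiteDimensional_L hK _
  have hdim : Module.finrank k ↥W = n + 1 := by
    have h1 := Weil.ell_eq_of_deg_ge hK (D := Finsupp.single P ((n + 1 : ℕ) : ℤ))
      (by rw [Degree.deg_single, Wdiv.deg_eq_one hK P, hg]; push_cast; omega)
    rw [Degree.deg_single, Wdiv.deg_eq_one hK P, hg] at h1
    rw [hW]
    change (_root_.FunFld.ell (Finsupp.single P ((n + 1 : ℕ) : ℤ))) = n + 1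
    omega
  let b := Module.finBasisOfFinrankEq k W hdim
  have hφ' := b.linearIndependent.map' W.subtype (Submodule.ker_subtype _)
  have hφ : LinearIndependent k fun i => (b i : K) := hφ'
  have hspan : span k (Set.range fun i => (b i : K)) = W := by
    have := congrArg (Submodule.map W.subtype) b.span_eq
    rwa [Submodule.map_span, Submodule.map_subtype_top, ← Set.range_comp] at this
  have hfin := finite_ramified hK hφ
  refine hfin.subset ?_
  rintro Q ⟨hQ, x, hx, he⟩
  have h1 : x ∈ span k (Set.range fun i => (b i : K)) := by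
    rw [hspan, hW]
    refine (Degree.mem_L_iff_div hK).mpr (Or.inr ?_)
    rw [add_comm, ← he]; exact Finsupp.single_nonneg.mpr (Int.natCast_nonneg _)
  have h2 : (1 : K) ∈ span k (Set.range fun i => (b i : K)) := by
    rw [hspan, hW]
    exact (Gaps.mem_L_single P).mpr
      ⟨by rw [map_one, ← exp_zero, exp_le_exp]; omega, fun R _ => (map_one R.1).le⟩
  refine ⟨x, h1, 1, h2, hx, one_ne_zero, ?_⟩
  have := DFunLike.congr_fun he Q
  rw [Finsupp.add_apply, Finsupp.single_eq_same, Finsupp.single_eq_of_ne hQ, Degree.div_apply hK,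
    zero_add] at this
  rw [← this, ← map_one (algebraMap k K), Place.ord_algebraMap]
  push_cast
  omega

end Groth.Agent.Lib.FunFld.Hasse.Ramified
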