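import Groth.Prelude.Def_LocRes
import Mathlib.RingTheory.MvPolynomial.Basic
import Mathlib.RingTheory.Localization.AtPrime.Basic
import Mathlib.RingTheory.PowerSeries.Inverse

/-! Residues of `g ^ (n - 1) dg`. -/

namespace Groth.Agent.Lib.FunFld.Hasse.Residue

open PowerSeries WithZero

universe u
variable {S : Type u} [CommRing S]

theorem derivative_zpow (u : (PowerSeries S)ˣ) (n : ℤ) :
    PowerSeries.derivative S ((u ^ n : (PowerSeries S)ˣ) : PowerSeries S) =
      n * ((u ^ (n - 1) : (PowerSeries S)ˣ) : PowerSeries S) *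
        PowerSeries.derivative S (u : PowerSeries S) := by
  induction n with
  | zero => simp
  | succ i ih =>
    rw [zpow_add_one, Units.val_mul, Derivation.leibniz, ih, smul_eq_mul, smul_eq_mul,
      add_sub_cancel_right,
      show (u ^ (i : ℤ) : (PowerSeries S)ˣ) = u ^ ((i : ℤ) - 1) * u by
        rw [← zpow_add_one, sub_add_cancel], Units.val_mul]
    push_cast
    ring
  | pred i ih =>
    have h1 : (u ^ (-(i : ℤ)) : (PowerSeries S)ˣ) = u ^ (-(i : ℤ) - 1) * u := by
      rw [← zpow_add_one, sub_add_cancel]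
    have h2 : (u ^ (-(i : ℤ) - 1) : (PowerSeries S)ˣ) = u ^ (-(i : ℤ) - 1 - 1) * u := by
      rw [← zpow_add_one, sub_add_cancel]
    rw [h1, Units.val_mul, Derivation.leibniz, smul_eq_mul, smul_eq_mul] at ih
    apply u.isUnit.mul_left_cancel
    rw [h2, Units.val_mul] at ih ⊢
    push_cast at ih ⊢
    linear_combination ih

/-- The coefficient which computes the residue. -/
noncomputable def rc (u : (PowerSeries S)ˣ) (n d : ℤ) (m : ℕ) : S :=
  (d : S) * coeff m ((u ^ n : (PowerSeries S)ˣ) : PowerSeries S) +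
    coeff m (X * (((u ^ (n - 1) : (PowerSeries S)ˣ) : PowerSeries S) *
      PowerSeries.derivative S (u : PowerSeries S)))

theorem natCast_mul_rc (u : (PowerSeries S)ˣ) {n d : ℤ} {m : ℕ} (h : n * d + m = 0) :
    (n : S) * rc u n d m = 0 := by
  have key : coeff m (X * ((n : PowerSeries S) * (((u ^ (n - 1) : (PowerSeries S)ˣ) : PowerSeries S) *
      PowerSeries.derivative S (u : PowerSeries S)))) =
      (m : S) * coeff m ((u ^ n : (PowerSeries S)ˣ) : PowerSeries S) := by
    rw [← mul_assoc (n : PowerSeries S), ← derivative_zpow]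
    rcases m with _ | m
    · simp
    · rw [coeff_succ_X_mul, coeff_derivative]
      push_cast
      ring
  rw [← map_intCast (PowerSeries.C (R := S)), mul_left_comm, coeff_C_mul] at key
  rw [rc, mul_add, key, ← mul_assoc, ← Int.cast_mul, eq_neg_of_add_eq_zero_left h]
  push_cast
  ring

theorem map_derivative {T : Type u} [CommRing T] (e : S →+* T) (f : PowerSeries S) :
    PowerSeries.map e (PowerSeries.derivative S f) =
      PowerSeries.derivative T (PowerSeries.map e f) := by
  ext i
  simp [coeff_derivative]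

theorem map_rc {T : Type u} [CommRing T] (e : S →+* T) (u : (PowerSeries S)ˣ) (n d : ℤ) (m : ℕ) :
    e (rc u n d m) = rc (Units.map (PowerSeries.map e : PowerSeries S →* PowerSeries T) u) n d m := by
  rw [rc, rc, map_add, map_mul, map_intCast, ← PowerSeries.coeff_map, ← PowerSeries.coeff_map,
    map_mul (PowerSeries.map e), map_mul (PowerSeries.map e), map_derivative, PowerSeries.map_X, ← map_zpow, ← map_zpow]
  rfl

variable {F : Type u} [Field F]

theorem rc_eq_zero (u : (PowerSeries F)ˣ) {n d : ℤ} {m : ℕ} (hn : n ≠ 0) (h : n * d + m = 0) :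
    rc u n d m = 0 := by
  let ev : MvPolynomial F ℤ →+* F := MvPolynomial.eval₂Hom (Int.castRingHom F) id
  have hev : Function.Surjective ev := fun a => ⟨MvPolynomial.X a, MvPolynomial.eval₂Hom_X' _ _ a⟩
  have : (RingHom.ker ev).IsPrime := RingHom.ker_isPrime ev
  let A := Localization.AtPrime (RingHom.ker ev)
  have hu : ∀ y : (RingHom.ker ev).primeCompl, IsUnit (ev y) := fun y => isUnit_iff_ne_zero.mpr y.2
  let e : A →+* F := IsLocalization.lift (S := A) hu
  have he : Function.Surjective e := fun a => by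
    obtain ⟨b, rfl⟩ := hev a
    exact ⟨algebraMap _ A b, IsLocalization.lift_eq hu b⟩
  obtain ⟨g, hg⟩ := PowerSeries.map_surjective e he (u : PowerSeries F)
  have hgu : IsUnit g := by
    refine PowerSeries.isUnit_iff_constantCoeff.mpr (IsLocalRing.notMem_maximalIdeal.mp fun hm => ?_)
    have hker : e (PowerSeries.constantCoeff g) = 0 := by
      by_contra hne
      have : RingHom.ker e ≤ IsLocalRing.maximalIdeal A :=
        IsLocalRing.le_maximalIdeal (RingHom.ker_ne_top e)
      have hmax : RingHom.ker e = IsLocalRing.maximalIdeal A :=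
        IsLocalRing.eq_maximalIdeal (RingHom.ker_isMaximal_of_surjective e he)
      exact hne (RingHom.mem_ker.mp (hmax ▸ hm))
    have h0 := congrArg PowerSeries.constantCoeff hg
    rw [← coeff_zero_eq_constantCoeff_apply, PowerSeries.coeff_map,
      coeff_zero_eq_constantCoeff_apply, hker] at h0
    exact (PowerSeries.isUnit_iff_constantCoeff.mp u.isUnit).ne_zero h0.symm
  have hz := natCast_mul_rc hgu.unit h
  have : IsDomain A := IsLocalization.isDomain_localization
    (RingHom.ker ev).primeCompl_le_nonZeroDivisors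
  have hcast : (n : A) ≠ 0 := by
    rw [ne_eq, ← map_intCast (algebraMap (MvPolynomial F ℤ) A), ← map_zero (algebraMap (MvPolynomial F ℤ) A),
      (IsLocalization.injective A (RingHom.ker ev).primeCompl_le_nonZeroDivisors).eq_iff]
    exact_mod_cast hn
  have h2 := congrArg e ((mul_eq_zero.mp hz).resolve_left hcast)
  rw [map_rc, map_zero] at h2
  convert! h2
  exact Units.ext (by simp [hg])

theorem decompose {g : LaurentSeries F} (hg : g ≠ 0) :
    ∃ (d : ℤ) (u : (PowerSeries F)ˣ), g = HahnSeries.single d 1 * ((u : PowerSeries F) : LaurentSeries F) ∧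
      Valued.v g = exp (-d) := by
  have hc : PowerSeries.constantCoeff g.powerSeriesPart ≠ 0 := by
    rw [← coeff_zero_eq_constantCoeff_apply, LaurentSeries.powerSeriesPart_coeff]
    simpa using HahnSeries.coeff_order_eq_zero.not.mpr hg
  obtain ⟨u, hu⟩ := PowerSeries.isUnit_iff_constantCoeff.mpr hc.isUnit
  refine ⟨g.order, u, by rw [hu, LaurentSeries.single_order_mul_powerSeriesPart], ?_⟩
  have h1 : ∀ w : PowerSeries F, Valued.v (w : LaurentSeries F) ≤ 1 := fun w =>
    (LaurentSeries.val_le_one_iff_eq_coe F _).mpr ⟨w, rfl⟩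
  have hv : Valued.v ((u : PowerSeries F) : LaurentSeries F) = 1 := by
    refine le_antisymm (h1 _) ?_
    have := mul_le_mul_right (h1 (↑u⁻¹)) (Valued.v ((u : PowerSeries F) : LaurentSeries F))
    rwa [← map_mul, ← map_mul, Units.mul_inv, map_one, map_one, mul_one] at this
  conv_lhs => rw [← LaurentSeries.single_order_mul_powerSeriesPart g, ← hu]
  rw [map_mul, hv, mul_one, LaurentSeries.valuation_single_zpow]

theorem coe_zpow (u : (PowerSeries F)ˣ) (n : ℤ) :
    (((u ^ n : (PowerSeries F)ˣ) : PowerSeries F) : LaurentSeries F) =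
      ((u : PowerSeries F) : LaurentSeries F) ^ n := by
  have h := congrArg Units.val
    (map_zpow (Units.map (HahnSeries.ofPowerSeries ℤ F).toMonoidHom) u n)
  rwa [Units.val_zpow_eq_zpow_val] at h

/-- The basic formula. -/
theorem coeff_zpow_mul_D {g : LaurentSeries F} {d : ℤ} {u : (PowerSeries F)ˣ}
    (hg : g = HahnSeries.single d 1 * ((u : PowerSeries F) : LaurentSeries F)) (n : ℤ) :
    (g ^ (n - 1) * LocRes.D F g).coeff (-1) =
      if 0 ≤ -(n * d) then rc u n d (-(n * d)).toNat else 0 := by
  have hD : LocRes.D F g = HahnSeries.single (d - 1) 1 *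
      (((d : PowerSeries F) * (u : PowerSeries F) + X * PowerSeries.derivative F (u : PowerSeries F) : PowerSeries F) :
        LaurentSeries F) := by
    rw [hg, LocRes.D_apply, LocRes.derivative_single_mul, LocRes.derivative_coe, PowerSeries.coe_add,
      PowerSeries.coe_mul, PowerSeries.coe_mul, PowerSeries.coe_X, mul_add, ← mul_assoc,
      ← mul_assoc, HahnSeries.single_mul_single, one_mul, sub_add_cancel, add_comm, zsmul_one,
      show (((d : PowerSeries F)) : LaurentSeries F) = HahnSeries.C (d : F) by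
        rw [← map_intCast (PowerSeries.C (R := F)), HahnSeries.ofPowerSeries_C],
      HahnSeries.C_apply, HahnSeries.single_mul_single, add_zero, one_mul]
  have hz : g ^ (n - 1) = HahnSeries.single ((n - 1) * d) 1 *
      (((u ^ (n - 1) : (PowerSeries F)ˣ) : PowerSeries F) : LaurentSeries F) := by
    rw [hg, mul_zpow, coe_zpow]
    congr 1
    rw [RatFunc.single_zpow d, ← zpow_mul, ← RatFunc.single_zpow, mul_comm]
  rw [hz, hD, mul_mul_mul_comm, HahnSeries.single_mul_single, one_mul, ← PowerSeries.coe_mul,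
    HahnSeries.coeff_single_mul, one_mul, show -1 - ((n - 1) * d + (d - 1)) = -(n * d) by ring]
  rw [PowerSeries.coeff_coe]
  split_ifs with h1 h2 <;> try omega
  · rfl
  · rw [rc, ← PowerSeries.coeff_C_mul, map_intCast,
      show (u ^ n : (PowerSeries F)ˣ) = u ^ (n - 1) * u by rw [← zpow_add_one, sub_add_cancel],
      Units.val_mul, ← map_add]
    rw [show (-(n * d)).natAbs = (-(n * d)).toNat by omega]
    congr 1
    ring

theorem coeff_zpow_mul_D_eq_zero (g : LaurentSeries F) {n : ℤ} (hn : n ≠ 0) :
    (g ^ (n - 1) * LocRes.D F g).coeff (-1) = 0 := by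
  rcases eq_or_ne g 0 with rfl | hg
  · simp
  obtain ⟨d, u, hdu, -⟩ := decompose hg
  rw [coeff_zpow_mul_D hdu]
  split_ifs with h
  · exact rc_eq_zero u hn (by rw [Int.toNat_of_nonneg h, add_neg_cancel])
  · rfl

theorem coeff_inv_mul_D {g : LaurentSeries F} (hg : g ≠ 0) :
    (g⁻¹ * LocRes.D F g).coeff (-1) = ((-log (Valued.v g) : ℤ) : F) := by
  obtain ⟨d, u, hdu, hv⟩ := decompose hg
  rw [hv, log_exp, neg_neg, show g⁻¹ = g ^ ((0 : ℤ) - 1) by rw [zero_sub, zpow_neg_one],
    coeff_zpow_mul_D hdu]
  simp [rc]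

end Groth.Agent.Lib.FunFld.Hasse.Residue
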