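import Groth.Agent.Lib.FunFld.Hasse.Classical
import Groth.Agent.Lib.FunFld.Auto

/-! Weierstrass points of the canonical map in small characteristic range. -/

namespace Groth.Agent.Lib.FunFld.Hasse.Weierstrass

open WithZero Submodule
open Groth.Agent.Lib.FunFld Groth.Agent.Lib.FunFld.Hasse

universe u v
variable {k : Type u} {K : Type v} [Field k] [Field K] [Algebra k K]

/-- Twice the weight of the gap sequence at a place. -/
noncomputable def wt (P : _root_.FunFld.Place k K) : ℤ :=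
  2 * ((∑ γ ∈ Gaps.gapsTo P (2 * _root_.FunFld.genus k K), γ : ℕ) : ℤ) -
    (_root_.FunFld.genus k K : ℤ) * (_root_.FunFld.genus k K + 1)

theorem not_isPole_one (hK : FunFld.IsFunctionField k K) {P : _root_.FunFld.Place k K}
    (hP : P.deg = 1) (hg : 1 ≤ _root_.FunFld.genus k K) : ¬ Gaps.IsPole P 1 := fun h => by
  have hall : ∀ m, Gaps.IsPole P m := fun m => by
    induction m with
    | zero => exact Gaps.isPole_zero P
    | succ m ih => exact Gaps.isPole_add P ih h
  have h1 := Gaps.card_eq_genus hK hP (n := 2 * _root_.FunFld.genus k K) (by omega)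
  rw [Finset.eq_empty_of_forall_notMem (s := Gaps.gapsTo P _)
    fun m hm => ((Gaps.mem_gapsTo P).mp hm).2 (hall m), Finset.card_empty] at h1
  omega

theorem isPole_pull (σ : K ≃ₐ[k] K) {P : _root_.FunFld.Place k K} {m : ℕ}
    (h : Gaps.IsPole P m) : Gaps.IsPole (Auto.pull P σ) m := by
  obtain ⟨f, hf, hf'⟩ := h
  refine ⟨σ.symm f, by rw [Auto.pull_apply, σ.apply_symm_apply]; exact hf, fun Q hQ => ?_⟩
  rw [← Auto.pull_apply]
  refine hf' _ fun e => hQ ?_
  rw [← e, Auto.pull_pull, show σ.symm * σ = 1 from AlgEquiv.ext σ.symm_apply_apply, Auto.pull_one]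

theorem wt_pull (σ : K ≃ₐ[k] K) (P : _root_.FunFld.Place k K) : wt (Auto.pull P σ) = wt P := by
  have h : Gaps.gapsTo (Auto.pull P σ) (2 * _root_.FunFld.genus k K) =
      Gaps.gapsTo P (2 * _root_.FunFld.genus k K) := by
    ext m
    rw [Gaps.mem_gapsTo, Gaps.mem_gapsTo]
    refine and_congr_right fun _ => not_congr ⟨fun h => ?_, isPole_pull σ⟩
    have := isPole_pull σ.symm h
    rwa [Auto.pull_pull, show σ * σ.symm = 1 from AlgEquiv.ext σ.apply_symm_apply, Auto.pull_one]
      at this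
  rw [wt, wt, h]

theorem sum_add_le (G : Finset ℕ) (h : ∀ γ ∈ G, γ + 1 ≤ 2 * (G.filter (· ≤ γ)).card) :
    (∑ γ ∈ G, γ) + (if 2 ∈ G then 1 else 0) ≤ G.card ^ 2 := by
  classical
  induction G using Finset.induction_on_max with
  | empty => simp
  | insert a s hlt ih =>
    have hnot : a ∉ s := fun ha => lt_irrefl a (hlt a ha)
    have h1 := h a (Finset.mem_insert_self a s)
    rw [Finset.filter_true_of_mem (fun x hx => (Finset.mem_insert.mp hx).elim (fun e => e.le)
      fun hx => (hlt x hx).le), Finset.card_insert_of_notMem hnot] at h1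
    have h2 := ih fun γ hγ => by
      have := h γ (Finset.mem_insert_of_mem hγ)
      rwa [Finset.filter_insert, if_neg (not_le.mpr (hlt γ hγ))] at this
    rw [Finset.sum_insert hnot, Finset.card_insert_of_notMem hnot]
    by_cases ha : a = 2
    · subst ha
      have hsum : ∑ x ∈ s, x ≤ s.card := by
        refine (Finset.sum_le_card_nsmul _ _ 1 fun x hx => ?_).trans_eq (by simp)
        have := hlt x hx
        omega
      rw [if_pos (Finset.mem_insert_self 2 s)]
      have hc : 1 ≤ s.card := by omega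
      nlinarith
    · have hiff : (2 ∈ insert a s) ↔ 2 ∈ s := by simp [Ne.symm ha]
      simp only [hiff]
      split_ifs at h2 ⊢ <;> nlinarith

theorem sum_gaps_add_le (hK : FunFld.IsFunctionField k K) {P : _root_.FunFld.Place k K}
    (hP : P.deg = 1) :
    (∑ γ ∈ Gaps.gapsTo P (2 * _root_.FunFld.genus k K), γ) +
      (if 2 ∈ Gaps.gapsTo P (2 * _root_.FunFld.genus k K) then 1 else 0) ≤
        _root_.FunFld.genus k K ^ 2 := by
  classical
  refine (sum_add_le _ fun γ hγ => ?_).trans_eq ?_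
  · rw [Gaps.mem_gapsTo] at hγ
    refine (Gaps.succ_le_two_mul_card P hγ.2).trans
      (Nat.mul_le_mul_left 2 (Finset.card_le_card fun m hm => ?_))
    rw [Gaps.mem_gapsTo] at hm
    rw [Finset.mem_filter, Gaps.mem_gapsTo]
    exact ⟨⟨⟨hm.1.1, hm.1.2.trans hγ.1.2⟩, hm.2⟩, hm.1.2⟩
  · rw [Gaps.card_eq_genus hK hP (by omega)]

theorem wt_le (hK : FunFld.IsFunctionField k K) {P : _root_.FunFld.Place k K} (hP : P.deg = 1) :
    wt P ≤ (_root_.FunFld.genus k K : ℤ) * ((_root_.FunFld.genus k K : ℤ) - 1) := by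
  have h2 : ((∑ γ ∈ Gaps.gapsTo P (2 * _root_.FunFld.genus k K), γ : ℕ) : ℤ) ≤
      (_root_.FunFld.genus k K : ℤ) ^ 2 := by
    exact_mod_cast Gaps.sum_gapsTo_le hK hP (2 * _root_.FunFld.genus k K)
  rw [wt]
  nlinarith

theorem isPole_two_of_wt (hK : FunFld.IsFunctionField k K) {P : _root_.FunFld.Place k K}
    (hP : P.deg = 1) (hg : 1 ≤ _root_.FunFld.genus k K)
    (h : wt P = (_root_.FunFld.genus k K : ℤ) * ((_root_.FunFld.genus k K : ℤ) - 1)) :
    Gaps.IsPole P 2 := by
  classical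
  by_contra h2
  have hmem : 2 ∈ Gaps.gapsTo P (2 * _root_.FunFld.genus k K) :=
    (Gaps.mem_gapsTo P).mpr ⟨⟨by norm_num, by omega⟩, h2⟩
  have h1 := sum_gaps_add_le hK hP
  rw [if_pos hmem] at h1
  have h1' : ((∑ γ ∈ Gaps.gapsTo P (2 * _root_.FunFld.genus k K), γ : ℕ) : ℤ) + 1 ≤
      (_root_.FunFld.genus k K : ℤ) ^ 2 := by exact_mod_cast h1
  rw [wt] at h
  nlinarith

section Canonical

variable [IsAlgClosed k] (hK : FunFld.IsFunctionField k K) (hg : 1 < _root_.FunFld.genus k K)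
  (hchar : ringChar k = 0 ∨ 2 * _root_.FunFld.genus k K - 2 < ringChar k)
  {C : _root_.FunFld.Divisor k K} (hC : FunFld.IsCanonical k K C)
  {n : ℕ} {φ : Fin (n + 1) → K} (hφ : LinearIndependent k φ) (hspan : span k (Set.range φ) = FunFld.L C)
include hK hg hC hφ hspan

omit [IsAlgClosed k] hg in
theorem succ_eq : n + 1 = _root_.FunFld.genus k K := by
  have h1 := Weil.ell_canonical hK hC
  simp only [FunFld.ell] at h1
  rwa [← hspan, finrank_span_eq_card hφ, Fintype.card_fin] at h1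

theorem mapDiv_eq : FunFld.mapDiv k φ = C := Finsupp.ext fun P => by
  have hP := Wdiv.deg_eq_one hK P
  have hne : ∀ i, φ i ≠ 0 := fun i => hφ.ne_zero i
  obtain ⟨hle, i, hi⟩ := Diff.exp_mapDiv hK hne P
  refine le_antisymm (exp_le_exp.mp (hi ▸ ?_)) (exp_le_exp.mp ?_)
  · exact (hspan ▸ subset_span ⟨i, rfl⟩ : φ i ∈ FunFld.L C) P
  · obtain ⟨z, hz, hzv⟩ := (Classical.exists_val_canonical_iff hK hP hC 0).mpr
      (not_isPole_one hK hP (by omega))
    rw [Nat.cast_zero, sub_zero] at hzv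
    rw [← hzv]
    exact Diff.val_le_of_mem_span hle (hspan.symm ▸ hz)

include hchar

theorem deg_lt_char : ringChar k = 0 ∨ (FunFld.mapDiv k φ).deg < ringChar k := by
  refine hchar.imp_right fun h => ?_
  rw [mapDiv_eq hK hg hC hφ hspan, Weil.deg_canonical hK hC]
  omega

variable {s : K} {H : K →ₐ[k] PowerSeries K} (hH : LocRes.IsHasseFamily s H) {J : Fin n → ℕ}
  (hJ : FunFld.IsOrders K (FunFld.hcol (AlgHom.id k K) H φ) J)
  (Φ : _root_.FunFld.Place k K → (K →ₐ[k] LaurentSeries k))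
  (hΦ : ∀ P : _root_.FunFld.Place k K, LocRes.IsExpansionAt P.1 (Φ P))
include hH hJ hΦ

omit hΦ in
theorem orders_eq : J = fun l : Fin n => (l : ℕ) + 1 := by
  obtain ⟨t, ht⟩ := Riemann.exists_transcendental hK
  obtain ⟨P, -⟩ := Existence.exists_zero hK ht
  have h := Classical.orders_eq hK hφ (deg_lt_char hK hg hchar hC hφ hspan) (P := P)
    (Or.inl ⟨rfl, rfl⟩) hH
  have heq : Set.range J = Set.range fun l : Fin n => (l : ℕ) + 1 :=
    Set.ext fun j => (hJ.2 j).trans (h.2 j).symm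
  exact (hJ.1.range_inj h.1).mp heq

theorem wDiv_eq (P : _root_.FunFld.Place k K) :
    2 * FunFld.wDiv (AlgHom.id k K) H Φ s φ J P = wt P := by
  classical
  have hP := Wdiv.deg_eq_one hK P
  have hn := succ_eq hK hC hφ hspan
  set g := _root_.FunFld.genus k K with hgdef
  obtain ⟨y, hy, hli, hint, heff⟩ := Wdiv.exists_normalized P φ hφ
  obtain ⟨t, ψ, Ht, ht, hψ, hψt, hHt⟩ := Wdiv.exists_local hK P
  obtain ⟨hJt, hW⟩ := Diff.wDiv_invariant hK hφ (AlgHom.id k K) hH hHt hJ (A := 1)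
    (by rw [Matrix.det_one]; exact one_ne_zero) hy (φ' := fun i => y * φ i)
    (fun i => by simp [Matrix.one_apply, ite_smul]) Φ hΦ
  rw [← hW]
  set φ' : Fin (n + 1) → K := fun i => y * φ i
  obtain ⟨J', hJ'⟩ := Diff.exists_orders_at hK hli heff hint ht hHt
  have hyC : P.1 y = exp (-(C P)) := by
    have h1 := Diff.mapDiv_smul hK (fun i => hφ.ne_zero i) hy P
    rw [show (y • φ : Fin (n + 1) → K) = φ' from rfl,
      Diff.mapDiv_normalized hK (fun i => hli.ne_zero i) hint heff,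
      mapDiv_eq hK hg hC hφ hspan] at h1
    rw [Place.val_eq_exp P hy, exp_inj]
    omega
  have hspan' : span k (Set.range φ') = (FunFld.L C).map (LinearMap.mulLeft k y) := by
    rw [← hspan, ← span_image, ← Set.range_comp]
    rfl
  have hgap : ∀ l, 0 < J' l ∧ ¬ Gaps.IsPole P (J' l + 1) := fun l => by
    obtain ⟨hpos, f, hf, hfv⟩ :=
      (Local.isJump_hcolAt_iff φ' hK hψ hψt hHt hint (J' l)).mp ((hJ'.2 _).mp ⟨l, rfl⟩)
    rw [hspan'] at hf
    obtain ⟨z, hz, rfl⟩ := hf
    refine ⟨hpos, (Classical.exists_val_canonical_iff hK hP hC (J' l)).mp ⟨z, hz, ?_⟩⟩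
    change P.1 (y * z) = _ at hfv
    rw [map_mul, hyC] at hfv
    have hz0 : z ≠ 0 := fun h => by rw [h, map_zero, mul_zero] at hfv; exact exp_ne_zero hfv.symm
    rw [Place.val_eq_exp P hz0, ← exp_add, exp_inj] at hfv
    rw [Place.val_eq_exp P hz0, exp_inj]
    omega
  set G := Gaps.gapsTo P (2 * g)
  have hG : G.card = g := Gaps.card_eq_genus hK hP (by omega)
  have h1G : 1 ∈ G := (Gaps.mem_gapsTo P).mpr ⟨⟨le_rfl, by omega⟩, not_isPole_one hK hP (by omega)⟩
  have hinj : Function.Injective fun l => J' l + 1 := fun a b h => hJ'.1.injective (Nat.succ_injective h)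
  have himg : Finset.univ.image (fun l => J' l + 1) = G.erase 1 := by
    refine Finset.eq_of_subset_of_card_le (fun m hm => ?_) ?_
    · obtain ⟨l, -, rfl⟩ := Finset.mem_image.mp hm
      obtain ⟨h1, h2⟩ := hgap l
      refine Finset.mem_erase.mpr ⟨by omega, (Gaps.mem_gapsTo P).mpr ⟨⟨by omega, ?_⟩, h2⟩⟩
      by_contra hlt
      exact h2 (Gaps.isPole_of_two_mul_le hK hP (by rw [← hgdef]; omega))
    · rw [Finset.card_erase_of_mem h1G, hG, Finset.card_image_of_injective _ hinj, Finset.card_univ,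
        Fintype.card_fin]
      omega
  have hB : ∀ l, J' l ≤ 2 * g - 2 := fun l => by
    obtain ⟨-, h2⟩ := hgap l
    by_contra hlt
    exact h2 (Gaps.isPole_of_two_mul_le hK hP (by rw [← hgdef]; omega))
  have hdet := Classical.det_binom_ne_zero (k := k) hJ'.1 hB hchar le_rfl fun l => (hgap l).1
  have hJ1 := orders_eq hK hg hchar hC hφ hspan hH hJ
  subst hJ1
  have hfix : FunFld.IsFixedPt (AlgHom.id k K) P := fun z hz => hz
  have hv := ((Local.val_det φ' hK hfix hψ hψt ht hHt hli heff hint hJ' _).2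
    (Or.inl fun l => Nat.succ_pos _)).mpr hdet
  rw [Diff.wDiv_fixed hK hfix hli heff hint ht hHt Φ hΦ, Place.ord_eq_of_val_eq_exp P hv, neg_neg, wt,
    ← Finset.add_sum_erase G _ h1G, ← himg, Finset.sum_image fun a _ b _ h => hinj h]
  have hsum : 2 * (∑ l : Fin n, (((l : ℕ) + 1 : ℕ) : ℤ)) = (n : ℤ) * (n + 1) := by
    have hgen : ∀ m : ℕ, 2 * (∑ i ∈ Finset.range m, ((i + 1 : ℕ) : ℤ)) = (m : ℤ) * (m + 1) := fun m => by
      induction m with
      | zero => simp
      | succ m ih => rw [Finset.sum_range_succ, mul_add, ih]; push_cast; ring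
    rw [Fin.sum_univ_eq_sum_range (fun i => ((i + 1 : ℕ) : ℤ))]
    exact hgen n
  push_cast [Finset.sum_add_distrib, Finset.sum_sub_distrib, Finset.sum_const, Finset.card_univ,
    Fintype.card_fin, nsmul_eq_mul] at hsum ⊢
  rw [← hgdef, show (g : ℤ) = n + 1 by exact_mod_cast hn.symm]
  linarith

theorem support_eq : {P | FunFld.wDiv (AlgHom.id k K) H Φ s φ J P ≠ 0} =
    {P : _root_.FunFld.Place k K | wt P ≠ 0} := by
  ext P
  simp only [Set.mem_ofPred_eq, ← wDiv_eq hK hg hchar hC hφ hspan hH hJ Φ hΦ P, ne_eq,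
    mul_eq_zero, OfNat.ofNat_ne_zero, false_or]

theorem finite_wt : {P : _root_.FunFld.Place k K | wt P ≠ 0}.Finite := by
  rw [← support_eq hK hg hchar hC hφ hspan hH hJ Φ hΦ]
  exact (FunFld.wDiv (AlgHom.id k K) H Φ s φ J).hasFiniteSupport

/-- There are at least `2g + 2` Weierstrass points; with equality they are hyperelliptic. -/
theorem count (S : Finset (_root_.FunFld.Place k K)) (hS : ∀ P, P ∈ S ↔ wt P ≠ 0) :
    2 * _root_.FunFld.genus k K + 2 ≤ S.card ∧
      (S.card = 2 * _root_.FunFld.genus k K + 2 → ∀ P ∈ S,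
        wt P = (_root_.FunFld.genus k K : ℤ) * ((_root_.FunFld.genus k K : ℤ) - 1)) := by
  set g := _root_.FunFld.genus k K with hgdef
  set W := FunFld.wDiv (AlgHom.id k K) H Φ s φ J with hWdef
  have hdeg := Wdiv.deg_wDiv hK (AlgHom.id k K) Φ hΦ hH φ J
  have hn := succ_eq hK hC hφ hspan
  have hsum : 2 * W.deg = ∑ P ∈ S, wt P := by
    have hsub : W.support = S := Finset.ext fun P => by
      rw [Finsupp.mem_support_iff, hS, ← wDiv_eq hK hg hchar hC hφ hspan hH hJ Φ hΦ P, ← hWdef]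
      simp
    rw [FunFld.Divisor.deg, Finsupp.sum, hsub, Finset.mul_sum]
    refine Finset.sum_congr rfl fun P _ => ?_
    rw [Wdiv.deg_eq_one hK, Nat.cast_one, mul_one, hWdef, wDiv_eq hK hg hchar hC hφ hspan hH hJ Φ hΦ P]
  have hJ1 : 2 * (∑ l, (J l : ℤ)) = (n : ℤ) * (n + 1) := by
    rw [orders_eq hK hg hchar hC hφ hspan hH hJ]
    have hgen : ∀ m : ℕ, 2 * (∑ i ∈ Finset.range m, ((i + 1 : ℕ) : ℤ)) = (m : ℤ) * (m + 1) := fun m => by
      induction m with
      | zero => simp
      | succ m ih => rw [Finset.sum_range_succ, mul_add, ih]; push_cast; ring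
    rw [Fin.sum_univ_eq_sum_range (fun i => ((i + 1 : ℕ) : ℤ))]
    exact hgen n
  have hid : Module.finrank (AlgHom.id k K).fieldRange K = 1 := by
    rw [show (AlgHom.id k K).fieldRange = ⊤ from AlgHom.fieldRange_eq_top.mpr Function.surjective_id]
    exact IntermediateField.finrank_top
  rw [← hWdef, hid, mapDiv_eq hK hg hC hφ hspan, Weil.deg_canonical hK hC] at hdeg
  have hgn : (g : ℤ) = n + 1 := by exact_mod_cast hn.symm
  rw [← hgdef, hgn] at hdeg
  push_cast at hdeg
  have htot : 2 * W.deg = (2 * (g : ℤ) + 2) * ((g : ℤ) * ((g : ℤ) - 1)) := by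
    rw [hgn, hdeg, mul_add, ← mul_assoc (2 : ℤ) (_ - 2), mul_comm (2 : ℤ) (_ - 2), mul_assoc (_ - 2) (2 : ℤ),
      hJ1]
    ring
  have hbound : ∀ P ∈ S, wt P ≤ (g : ℤ) * ((g : ℤ) - 1) := fun P _ => wt_le hK (Wdiv.deg_eq_one hK P)
  have hpos : (0 : ℤ) < (g : ℤ) * ((g : ℤ) - 1) := mul_pos (by omega) (by omega)
  have hsum_le := Finset.sum_le_card_nsmul S wt _ hbound
  rw [← hsum, htot, nsmul_eq_mul] at hsum_le
  refine ⟨?_, fun hcard P hPS => ?_⟩
  · have := le_of_mul_le_mul_right hsum_le hpos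
    exact_mod_cast this
  · refine (Finset.sum_eq_sum_iff_of_le hbound).mp ?_ P hPS
    rw [← hsum, htot, Finset.sum_const, hcard, nsmul_eq_mul]
    push_cast
    ring

end Canonical

/-- On a hyperelliptic curve the other Weierstrass points are ramified. -/
theorem ramified [IsAlgClosed k] (hK : FunFld.IsFunctionField k K) (hg : 1 < _root_.FunFld.genus k K)
    {P₀ P : _root_.FunFld.Place k K} (hne : P ≠ P₀) (hP : wt P ≠ 0) {x : K}
    (hx : P₀.1 x = exp (2 : ℤ)) (hx' : ∀ Q, Q ≠ P₀ → Q.1 x ≤ 1) :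
    ∃ c : k, P.1 (x - algebraMap k K c) ≤ exp (-2) := by
  classical
  have h₀ := Wdiv.deg_eq_one hK P₀
  have h1 := Wdiv.deg_eq_one hK P
  set g := _root_.FunFld.genus k K with hgdef
  obtain ⟨c, hc⟩ := Param.isDegOne hK P x (hx' P hne)
  refine ⟨c, ?_⟩
  by_contra hlt
  set u := x - algebraMap k K c
  have hv : P.1 u = exp (-1) := by
    have hu0 : u ≠ 0 := fun h => by rw [h, map_zero] at hlt; exact hlt zero_le
    rw [Place.val_eq_exp P hu0] at hc hlt ⊢
    rw [← exp_zero, exp_lt_exp] at hc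
    rw [exp_le_exp] at hlt
    rw [exp_inj]
    omega
  have hu₀ : P₀.1 u = exp (2 : ℤ) := by
    rw [P₀.1.map_sub_eq_of_lt_left, hx]
    refine (P₀.2.1 c).trans_lt ?_
    rw [hx, ← exp_zero, exp_lt_exp]
    norm_num
  have hu' : ∀ Q, Q ≠ P₀ → Q.1 u ≤ 1 := fun Q hQ => Q.1.map_sub_le (hx' Q hQ) (Q.2.1 c)
  set C₀ : _root_.FunFld.Divisor k K := Finsupp.single P₀ ((2 * g - 2 : ℕ) : ℤ)
  have heven : ∀ i, Gaps.IsPole P₀ (2 * i) := fun i => by
    induction i with
    | zero => exact Gaps.isPole_zero P₀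
    | succ i ih => exact Gaps.isPole_add P₀ ih ⟨x, hx, hx'⟩
  have hC₀ : FunFld.IsCanonical k K C₀ := by
    refine (Weil.isCanonical_iff hK C₀).mpr ⟨?_, by rw [Degree.deg_single, h₀]; omega⟩
    have hsum := Gaps.ell_add_card hK h₀ (2 * g - 2)
    change FunFld.ell C₀ + _ = _ at hsum
    have hle : (Gaps.gapsTo P₀ (2 * g - 2)).card ≤ g - 1 := by
      refine (Finset.card_le_card (t := (Finset.range (g - 1)).image fun i => 2 * i + 1) fun m hm => ?_).trans
        (Finset.card_image_le.trans (Finset.card_range _).le)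
      rw [Gaps.mem_gapsTo] at hm
      obtain ⟨i, hi | hi⟩ := Nat.even_or_odd' m
      · exact absurd (hi ▸ heven i) hm.2
      · exact Finset.mem_image.mpr ⟨i, Finset.mem_range.mpr (by omega), hi.symm⟩
    have hge : g ≤ (Gaps.gapsTo P₀ (2 * g - 2)).card + 1 := by
      have h2 := Gaps.card_eq_genus hK h₀ (n := 2 * g - 1) (by omega)
      have h3 : Gaps.gapsTo P₀ (2 * g - 1) ⊆ insert (2 * g - 1) (Gaps.gapsTo P₀ (2 * g - 2)) := fun m hm => by
        rw [Gaps.mem_gapsTo] at hm
        rw [Finset.mem_insert, Gaps.mem_gapsTo]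
        exact (eq_or_lt_of_le hm.1.2).imp id fun h => ⟨⟨hm.1.1, by omega⟩, hm.2⟩
      have h4 := (Finset.card_le_card h3).trans (Finset.card_insert_le _ _)
      omega
    omega
  have hC₀P : C₀ P = 0 := Finsupp.single_eq_of_ne hne
  have hgap : ∀ j, j < g → ¬ Gaps.IsPole P (j + 1) := fun j hj => by
    refine (Classical.exists_val_canonical_iff hK h1 hC₀ j).mp ⟨u ^ j, fun Q => ?_, ?_⟩
    · rcases eq_or_ne Q P₀ with rfl | hQ
      · rw [Finsupp.single_eq_same, map_pow, hu₀, ← exp_nsmul, nsmul_eq_mul, exp_le_exp]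
        omega
      · rw [Finsupp.single_eq_of_ne hQ, exp_zero, map_pow]
        exact pow_le_one' (hu' Q hQ) j
    · rw [map_pow, hv, ← exp_nsmul, nsmul_eq_mul, hC₀P, zero_sub, mul_neg, mul_one]
  have hG : Gaps.gapsTo P (2 * g) = (Finset.range g).image (fun i => i + 1) := by
    refine (Finset.eq_of_subset_of_card_le (fun m hm => ?_) ?_).symm
    · obtain ⟨i, hi, rfl⟩ := Finset.mem_image.mp hm
      rw [Finset.mem_range] at hi
      exact (Gaps.mem_gapsTo P).mpr ⟨⟨by omega, by omega⟩, hgap i hi⟩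
    · rw [Gaps.card_eq_genus hK h1 (by omega), Finset.card_image_of_injective _ (fun a b h => by simpa using h),
        Finset.card_range]
  refine hP ?_
  rw [wt, ← hgdef, hG, Finset.sum_image fun a _ b _ h => by simpa using h]
  have hgen : ∀ m : ℕ, 2 * ((∑ i ∈ Finset.range m, (i + 1) : ℕ) : ℤ) = (m : ℤ) * (m + 1) := fun m => by
    induction m with
    | zero => simp
    | succ m ih => rw [Finset.sum_range_succ, Nat.cast_add, mul_add, ih]; push_cast; ring
  rw [hgen g, sub_self]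

/-- The kernel of the action on the Weierstrass points. -/
theorem dichotomy [IsAlgClosed k] (hK : FunFld.IsFunctionField k K) (hg : 1 < _root_.FunFld.genus k K)
    (S : Finset (_root_.FunFld.Place k K)) (hS : ∀ P, P ∈ S ↔ wt P ≠ 0)
    (hcount : 2 * _root_.FunFld.genus k K + 2 ≤ S.card ∧
      (S.card = 2 * _root_.FunFld.genus k K + 2 → ∀ P ∈ S,
        wt P = (_root_.FunFld.genus k K : ℤ) * ((_root_.FunFld.genus k K : ℤ) - 1))) :
    (2 * _root_.FunFld.genus k K + 2 < S.card ∧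
      ∀ σ : K ≃ₐ[k] K, (∀ P ∈ S, Auto.pull P σ = P) → σ = 1) ∨
    (S.card = 2 * _root_.FunFld.genus k K + 2 ∧
      ∃ x : K, Transcendental k x ∧
        Module.finrank (IntermediateField.adjoin k ({x} : Set K)) K = 2 ∧
        ∀ σ : K ≃ₐ[k] K, (∀ P ∈ S, Auto.pull P σ = P) ↔ σ x = x) := by
  classical
  obtain ⟨hle, heq⟩ := hcount
  rcases lt_or_eq_of_le hle with hlt | hcard
  · exact Or.inl ⟨hlt, fun σ hσ => Auto.eq_one_of_fixed hK σ hσ hlt⟩
  refine Or.inr ⟨hcard.symm, ?_⟩
  obtain ⟨P₀, hP₀⟩ := Finset.card_pos.mp (show 0 < S.card by omega)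
  have h₀ := Wdiv.deg_eq_one hK P₀
  obtain ⟨x, hx, hx'⟩ := isPole_two_of_wt hK h₀ (by omega) (heq hcard.symm P₀ hP₀)
  rw [Nat.cast_ofNat] at hx
  have hx0 : P₀.ord x = -2 := Place.ord_eq_of_val_eq_exp P₀ hx
  have hxtr : Transcendental k x := Existence.transcendental_of_ord_ne_zero hK P₀ (by omega)
  refine ⟨x, hxtr, ?_, fun σ => ⟨fun hσ => ?_, fun hσ P hP => ?_⟩⟩
  · have h := Degree.deg_poleDiv hK hxtr
    rw [show Degree.poleDiv (k := k) x = Finsupp.single P₀ 2 from Finsupp.ext fun Q => ?_,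
      Degree.deg_single, h₀] at h
    · exact_mod_cast h.symm
    · rw [Degree.poleDiv_apply hK]
      rcases eq_or_ne Q P₀ with rfl | hQ
      · rw [Finsupp.single_eq_same, hx0]; rfl
      · rw [Finsupp.single_eq_of_ne hQ]
        have := (Place.val_le_one_iff Q).mp (hx' Q hQ)
        omega
  · by_contra hne
    have hB : x - σ x ∈ FunFld.L (Finsupp.single P₀ (2 : ℤ)) := by
      refine sub_mem ((Gaps.mem_L_single P₀).mpr ⟨hx.le, hx'⟩) ((Gaps.mem_L_single P₀).mpr ⟨?_, fun Q hQ => ?_⟩)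
      · rw [← Auto.pull_apply, hσ P₀ hP₀]; exact hx.le
      · rw [← Auto.pull_apply]
        refine hx' _ fun e => hQ ?_
        calc Q = Auto.pull (Auto.pull Q σ) σ.symm := by
              rw [Auto.pull_pull, show σ * σ.symm = 1 from AlgEquiv.ext σ.apply_symm_apply, Auto.pull_one]
          _ = Auto.pull (Auto.pull P₀ σ) σ.symm := by rw [e, hσ P₀ hP₀]
          _ = P₀ := by
              rw [Auto.pull_pull, show σ * σ.symm = 1 from AlgEquiv.ext σ.apply_symm_apply, Auto.pull_one]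
    have h := Auto.card_fixed_le hK σ (fun e => hne e.symm) (S := S.erase P₀)
      (fun P hP => ⟨hσ P (Finset.mem_of_mem_erase hP), hx' P (Finset.ne_of_mem_erase hP)⟩) hB
    rw [Degree.deg_single, h₀, Finset.card_erase_of_mem hP₀, Finset.sum_eq_zero fun P hP => ?_] at h
    · omega
    · rw [Finsupp.single_eq_of_ne (Finset.ne_of_mem_erase hP)]; rfl
  · rcases eq_or_ne P P₀ with rfl | hPne
    · by_contra hne
      refine absurd (hx' _ hne) (not_le.mpr ?_)
      rw [Auto.pull_apply, hσ, hx, ← exp_zero, exp_lt_exp]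
      norm_num
    obtain ⟨c, hc⟩ := ramified hK hg hPne ((hS P).mp hP) hx hx'
    by_contra hne
    set u := x - algebraMap k K c
    set Q := Auto.pull P σ
    have hQu : Q.1 u ≤ exp (-1) := by
      rw [Auto.pull_apply, map_sub σ, σ.commutes, hσ]
      exact hc.trans (exp_le_exp.mpr (by norm_num))
    have hu0 : u ≠ 0 := fun h => hxtr (by
      rw [sub_eq_zero.mp h]; exact isAlgebraic_algebraMap c)
    have hle2 : Finsupp.single P (2 : ℤ) + Finsupp.single Q 1 ≤
        FunFld.div k u + Finsupp.single P₀ 2 := Finsupp.le_def.mpr fun R => by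
      rw [Finsupp.add_apply, Finsupp.add_apply, Degree.div_apply hK]
      have hu : R ≠ P₀ → 0 ≤ R.ord u := fun hR =>
        (Place.val_le_one_iff R).mp (R.1.map_sub_le (hx' R hR) (R.2.1 c))
      rcases eq_or_ne R P with rfl | hRP
      · rw [Finsupp.single_eq_same, Finsupp.single_eq_of_ne (Ne.symm hne), Finsupp.single_eq_of_ne hPne]
        rw [Place.val_eq_exp R hu0, exp_le_exp] at hc
        omega
      · rw [Finsupp.single_eq_of_ne hRP]
        rcases eq_or_ne R Q with rfl | hRQ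
        · rw [Finsupp.single_eq_same]
          have : Q ≠ P₀ := fun e => by
            have h1 : Q.1 u < 1 := hQu.trans_lt (by rw [← exp_zero, exp_lt_exp]; norm_num)
            rw [e, P₀.1.map_sub_eq_of_lt_left, hx, ← exp_zero, exp_lt_exp] at h1
            · norm_num at h1
            · exact (P₀.2.1 c).trans_lt (by rw [hx, ← exp_zero, exp_lt_exp]; norm_num)
          rw [Finsupp.single_eq_of_ne this]
          rw [Place.val_eq_exp Q hu0, exp_le_exp] at hQu
          omega
        · rw [Finsupp.single_eq_of_ne hRQ]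
          rcases eq_or_ne R P₀ with rfl | hR
          · rw [Finsupp.single_eq_same, Place.ord_eq_of_val_eq_exp (x := u) R (n := 2)]
            · norm_num
            · rw [R.1.map_sub_eq_of_lt_left, hx]
              exact (R.2.1 c).trans_lt (by rw [hx, ← exp_zero, exp_lt_exp]; norm_num)
          · rw [Finsupp.single_eq_of_ne hR]
            have := hu hR
            omega
    have h := Degree.deg_mono hle2
    rw [Degree.deg_add, Degree.deg_add, Degree.deg_single, Degree.deg_single, Degree.deg_single,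
      Degree.deg_div hK, Wdiv.deg_eq_one hK, Wdiv.deg_eq_one hK, h₀] at h
    norm_num at h

/-- The automorphism group is finite. -/
theorem finite_algEquiv [IsAlgClosed k] (hK : FunFld.IsFunctionField k K) (hg : 1 < _root_.FunFld.genus k K)
    (S : Finset (_root_.FunFld.Place k K)) (hS : ∀ P, P ∈ S ↔ wt P ≠ 0)
    (hcount : 2 * _root_.FunFld.genus k K + 2 ≤ S.card ∧
      (S.card = 2 * _root_.FunFld.genus k K + 2 → ∀ P ∈ S,
        wt P = (_root_.FunFld.genus k K : ℤ) * ((_root_.FunFld.genus k K : ℤ) - 1))) :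
    Finite (K ≃ₐ[k] K) := by
  classical
  set Ker := {σ : K ≃ₐ[k] K | ∀ P ∈ S, Auto.pull P σ = P}
  have hker : Ker.Finite := by
    rcases dichotomy hK hg S hS hcount with ⟨-, h⟩ | ⟨-, x, hxtr, -, h⟩
    · exact (Set.finite_singleton 1).subset fun σ hσ => h σ hσ
    · set F := IntermediateField.adjoin k ({x} : Set K)
      have := Bound.finiteDimensional_adjoin_transcendental hK hxtr
      have hfix : ∀ σ ∈ Ker, ∀ a : F, σ (a : K) = a := fun σ hσ a => by
        obtain ⟨p, q, hpq⟩ := (IntermediateField.mem_adjoin_simple_iff k (a : K)).mp a.2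
        rw [hpq, map_div₀, ← Polynomial.aeval_algHom_apply, ← Polynomial.aeval_algHom_apply,
          (h σ).mp hσ]
      let toF : Ker → (K →ₐ[F] K) := fun σ =>
        { (σ.1 : K →+* K) with commutes' := fun a => hfix σ.1 σ.2 a }
      have : Finite Ker := Finite.of_injective toF fun a b hab =>
        Subtype.ext (AlgEquiv.ext fun z => DFunLike.congr_fun hab z)
      exact Set.toFinite Ker
  let img : (K ≃ₐ[k] K) → (S → S) := fun σ P => ⟨Auto.pull P.1 σ, (hS _).mpr (by
    rw [wt_pull]; exact (hS P.1).mp P.2)⟩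
  have hfib : ∀ f, Finite {σ // img σ = f} := fun f => by
    by_cases hne : Nonempty {σ // img σ = f}
    · obtain ⟨⟨τ, hτ⟩⟩ := hne
      have := hker.to_subtype
      refine Finite.of_injective (fun σ => (⟨σ.1 * τ⁻¹, fun P hP => ?_⟩ : Ker)) fun a b hab =>
        Subtype.ext (mul_right_cancel (congrArg Subtype.val hab))
      have h := congrArg Subtype.val (congrFun (σ.2.trans hτ.symm) ⟨P, hP⟩)
      change Auto.pull P σ.1 = Auto.pull P τ at h
      rw [← Auto.pull_pull, h, Auto.pull_pull, mul_inv_cancel, Auto.pull_one]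
    · exact @Finite.of_subsingleton _ (not_nonempty_iff.mp hne).instSubsingleton
  exact Finite.of_equiv _ (Equiv.sigmaFiberEquiv img)

end Groth.Agent.Lib.FunFld.Hasse.Weierstrass
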